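import Groth.Agent.AdicEtaleLift.Torsion
import Groth.Agent.FlatMorOne.FlatStageRing

/-!
The Čech square of `B → C` and the standard opens of `I`, for modules extended from the base.
-/

set_option autoImplicit false
universe u

open TensorProduct

namespace Groth.AdicEtaleLift

variable {A B : Type u} [CommRing A] [CommRing B] [Algebra A B]

/-- The localization at an element of the base. -/
abbrev Rb (B : Type u) [CommRing B] [Algebra A B] (s : A) : Type u := Localization.Away (algebraMap A B s)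

theorem isUnit_of_dvd {s t : A} (h : s ∣ t) : IsUnit (algebraMap B (Rb B t) (algebraMap A B s)) :=
  isUnit_of_dvd_unit (map_dvd (algebraMap B (Rb B t)) (map_dvd (algebraMap A B) h))
    (IsLocalization.Away.algebraMap_isUnit _)

/-- Restriction to a smaller standard open. -/
noncomputable def res {s t : A} (h : s ∣ t) : Rb B s →ₐ[B] Rb B t :=
  IsLocalization.Away.liftAlgHom (A := B) (f := Algebra.ofId B (Rb B t)) (algebraMap A B s) (isUnit_of_dvd h)

theorem algHom_ext {s : A} {T : Type u} [CommRing T] [Algebra B T] (f g : Rb B s →ₐ[B] T) : f = g :=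
  IsLocalization.algHom_ext (Submonoid.powers (algebraMap A B s)) (Subsingleton.elim _ _)

variable (A) in
/-- The map on extended modules. -/
noncomputable def tm (M : Type u) [AddCommGroup M] [Module A M] {R S : Type u} [CommRing R] [CommRing S] [Algebra A R] [Algebra A S] [Algebra B R] [Algebra B S]
    [IsScalarTower A B R] [IsScalarTower A B S] (g : R →ₐ[B] S) : R ⊗[A] M →ₗ[B] S ⊗[A] M :=
  TensorProduct.AlgebraTensorModule.map g.toLinearMap LinearMap.id

variable (M : Type u) [AddCommGroup M] [Module A M]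

theorem tm_tmul {R S : Type u} [CommRing R] [CommRing S] [Algebra A R] [Algebra A S] [Algebra B R] [Algebra B S]
    [IsScalarTower A B R] [IsScalarTower A B S] (g : R →ₐ[B] S) (r : R) (m : M) :
    tm A M g (r ⊗ₜ m) = g r ⊗ₜ m := rfl

theorem tm_tm {R S T : Type u} [CommRing R] [CommRing S] [CommRing T] [Algebra A R] [Algebra A S] [Algebra A T]
    [Algebra B R] [Algebra B S] [Algebra B T] [IsScalarTower A B R] [IsScalarTower A B S] [IsScalarTower A B T]
    (g : R →ₐ[B] S) (g' : S →ₐ[B] T) (w : R ⊗[A] M) : tm A M g' (tm A M g w) = tm A M (g'.comp g) w := by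
  induction w with
  | zero => simp
  | tmul r m => simp [tm_tmul]
  | add x y hx hy => simp only [map_add, hx, hy]

theorem res_res {s t t' : A} (h : s ∣ t) (h' : t ∣ t') (w : Rb B s ⊗[A] M) :
    tm A M (res h') (tm A M (res h) w) = tm A M (res (B := B) (h.trans h')) w := by
  rw [tm_tm, algHom_ext ((res h').comp (res h)) (res (h.trans h'))]

theorem res_base {s t : A} (h : s ∣ t) (n : B ⊗[A] M) :
    tm A M (res h) (tm A M (Algebra.ofId B (Rb B s)) n) = tm A M (Algebra.ofId B (Rb B t)) n := by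
  rw [tm_tm, Subsingleton.elim ((res h).comp (Algebra.ofId B (Rb B s))) (Algebra.ofId B (Rb B t))]

theorem isBaseChange_tm_ofId (R : Type u) [CommRing R] [Algebra A R] [Algebra B R] [IsScalarTower A B R] :
    IsBaseChange R (tm A M (Algebra.ofId B R)) := by
  refine IsBaseChange.of_comp (TensorProduct.isBaseChange A M B) ?_
  have : (tm A M (Algebra.ofId B R)).restrictScalars A ∘ₗ TensorProduct.mk A B M 1 = TensorProduct.mk A R M 1 :=
    LinearMap.ext fun m => by simp [tm_tmul]
  rw [this]
  exact TensorProduct.isBaseChange A M R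

theorem isLocalizedModule_base (s : A) :
    IsLocalizedModule (Submonoid.powers (algebraMap A B s)) (tm A M (Algebra.ofId B (Rb B s))) :=
  (isLocalizedModule_iff_isBaseChange _ (Rb B s) _).mpr (isBaseChange_tm_ofId M _)

theorem base_eq_zero {s : A} {n : B ⊗[A] M} (h : tm A M (Algebra.ofId B (Rb B s)) n = 0) :
    ∃ K : ℕ, algebraMap A B s ^ K • n = 0 := by
  haveI := isLocalizedModule_base (B := B) M s
  obtain ⟨⟨_, K, rfl⟩, hK⟩ := (IsLocalizedModule.eq_zero_iff (Submonoid.powers (algebraMap A B s)) _).mp h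
  exact ⟨K, hK⟩

theorem base_surj {s : A} (w : Rb B s ⊗[A] M) :
    ∃ (K : ℕ) (n : B ⊗[A] M), algebraMap A B s ^ K • w = tm A M (Algebra.ofId B (Rb B s)) n := by
  haveI := isLocalizedModule_base (B := B) M s
  obtain ⟨⟨n, _, K, rfl⟩, hK⟩ := IsLocalizedModule.surj (Submonoid.powers (algebraMap A B s))
    (tm A M (Algebra.ofId B (Rb B s))) w
  exact ⟨K, n, hK⟩

theorem pow_smul_inj {s t : A} (h : s ∣ t) (K : ℕ) {v w : Rb B t ⊗[A] M}
    (hvw : algebraMap A B s ^ K • v = algebraMap A B s ^ K • w) : v = w := by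
  have hu : IsUnit (algebraMap B (Rb B t) (algebraMap A B s ^ K)) := by
    rw [map_pow]; exact (isUnit_of_dvd h).pow K
  rw [← algebraMap_smul (Rb B t), ← algebraMap_smul (Rb B t) (algebraMap A B s ^ K) w] at hvw
  exact hu.smul_left_cancel.mp hvw

theorem pow_smul_surj {s : A} (K : ℕ) (w : Rb B s ⊗[A] M) :
    ∃ v : Rb B s ⊗[A] M, algebraMap A B s ^ K • v = w := by
  have hu : IsUnit (algebraMap B (Rb B s) (algebraMap A B s ^ K)) := by
    rw [map_pow]; exact (isUnit_of_dvd dvd_rfl).pow K
  refine ⟨(↑hu.unit⁻¹ : Rb B s) • w, ?_⟩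
  rw [← algebraMap_smul (Rb B s), smul_smul]
  simp

theorem res_eq_zero {s t : A} {w : Rb B s ⊗[A] M} (h : tm A M (res (Dvd.intro t rfl : s ∣ s * t)) w = 0) :
    ∃ K : ℕ, algebraMap A B t ^ K • w = 0 := by
  obtain ⟨m, n, hn⟩ := base_surj M w
  have h0 : tm A M (Algebra.ofId B (Rb B (s * t))) n = 0 := by
    rw [← res_base M (Dvd.intro t rfl : s ∣ s * t) n, ← hn, map_smul, h, smul_zero]
  obtain ⟨K, hK⟩ := base_eq_zero M h0
  refine ⟨K, pow_smul_inj M (dvd_refl s) (K + m) ?_⟩
  rw [smul_zero, smul_smul, show algebraMap A B s ^ (K + m) * algebraMap A B t ^ K =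
    algebraMap A B (s * t) ^ K * algebraMap A B s ^ m by rw [map_mul, mul_pow, pow_add]; ring, mul_smul, hn,
    ← map_smul, hK, map_zero]

theorem res_surj {s t : A} (w : Rb B (s * t) ⊗[A] M) :
    ∃ (K : ℕ) (w' : Rb B s ⊗[A] M), algebraMap A B t ^ K • w = tm A M (res (Dvd.intro t rfl : s ∣ s * t)) w' := by
  obtain ⟨m, n, hn⟩ := base_surj M w
  obtain ⟨v, hv⟩ := pow_smul_surj M m (tm A M (Algebra.ofId B (Rb B s)) n)
  refine ⟨m, v, pow_smul_inj M (Dvd.intro t rfl : s ∣ s * t) m ?_⟩
  rw [← map_smul, hv, res_base, ← hn, smul_smul, ← mul_pow, ← map_mul]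

section square

variable {r : ℕ} (a : Fin r → A)

/-- The restriction from the module to the standard opens. -/
noncomputable def cech0 : B ⊗[A] M →ₗ[B] (∀ j, Rb B (a j) ⊗[A] M) :=
  LinearMap.pi fun j => tm A M (Algebra.ofId B (Rb B (a j)))

/-- The difference of the restrictions to the pairwise intersections. -/
noncomputable def cech1 : (∀ j, Rb B (a j) ⊗[A] M) →ₗ[B] (∀ p : Fin r × Fin r, Rb B (a p.1 * a p.2) ⊗[A] M) :=
  LinearMap.pi fun p => tm A M (res (dvd_mul_right _ _)) ∘ₗ LinearMap.proj p.1 -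
    tm A M (res (dvd_mul_left _ _)) ∘ₗ LinearMap.proj p.2

variable {I : Ideal B} (hIa : I = Ideal.span (Set.range fun j => algebraMap A B (a j)))

include hIa in
theorem isITors_cech0 (n : B ⊗[A] M) (h : cech0 M a n = 0) : IsITors I n :=
  isITors_of_gens (fun j => algebraMap A B (a j)) hIa n fun j => base_eq_zero M (congrFun h j)

include hIa in
theorem isITors_cech1 (g : ∀ j, Rb B (a j) ⊗[A] M) (h : cech1 M a g = 0) :
    IsITors I ((LinearMap.range (cech0 M a)).mkQ g) := by
  refine isITors_of_gens (fun j => algebraMap A B (a j)) hIa _ fun l => ?_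
  obtain ⟨m, n, hn⟩ := base_surj M (g l)
  have hK : ∀ j, ∃ K : ℕ, algebraMap A B (a l) ^ K •
      (algebraMap A B (a l) ^ m • g j - tm A M (Algebra.ofId B _) n) = 0 := fun j => by
    refine res_eq_zero M (t := a l) ?_
    have hjl : tm A M (res (dvd_mul_right (a j) (a l))) (g j) = tm A M (res (dvd_mul_left (a l) (a j))) (g l) :=
      sub_eq_zero.mp (congrFun h (j, l))
    rw [map_sub, map_smul, res_base, sub_eq_zero]
    refine (congrArg _ hjl).trans ?_
    rw [← map_smul, hn, res_base]
  choose K hK using hK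
  let L := Finset.univ.sup K
  refine ⟨L + m, (Submodule.Quotient.mk_eq_zero _).mpr ⟨algebraMap A B (a l) ^ L • n, funext fun j => ?_⟩⟩
  have h' : algebraMap A B (a l) ^ L • (algebraMap A B (a l) ^ m • g j - tm A M (Algebra.ofId B _) n) = 0 := by
    rw [show L = (L - K j) + K j from
      (Nat.sub_add_cancel (Finset.le_sup (f := K) (Finset.mem_univ j) : K j ≤ L)).symm, pow_add, mul_smul, hK, smul_zero]
  rw [smul_sub, sub_eq_zero, smul_smul, ← pow_add] at h'
  show tm A M (Algebra.ofId B _) (algebraMap A B (a l) ^ L • n) = algebraMap A B (a l) ^ (L + m) • g j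
  rw [map_smul, h']

include hIa in
theorem isITors_cocycle (f : ∀ p : Fin r × Fin r, Rb B (a p.1 * a p.2) ⊗[A] M)
    (hf : ∀ j k l, tm A M (res (dvd_mul_right (a j * a k) (a l))) (f (j, k)) =
      tm A M (res (mul_dvd_mul_right (dvd_mul_right (a j) (a k)) (a l))) (f (j, l)) -
        tm A M (res (mul_dvd_mul_right (dvd_mul_left (a k) (a j)) (a l))) (f (k, l))) :
    IsITors I ((LinearMap.range (cech1 M a)).mkQ f) := by
  refine isITors_of_gens (fun j => algebraMap A B (a j)) hIa _ fun l => ?_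
  have h1 : ∀ j, ∃ (K : ℕ) (w : Rb B (a j) ⊗[A] M),
      algebraMap A B (a l) ^ K • f (j, l) = tm A M (res (dvd_mul_right (a j) (a l))) w :=
    fun j => res_surj M (f (j, l))
  choose K w hw using h1
  let m := Finset.univ.sup K
  let y : ∀ j, Rb B (a j) ⊗[A] M := fun j => algebraMap A B (a l) ^ (m - K j) • w j
  have hy : ∀ j, algebraMap A B (a l) ^ m • f (j, l) = tm A M (res (dvd_mul_right (a j) (a l))) (y j) := fun j => by
    rw [map_smul, ← hw, smul_smul, ← pow_add,
      Nat.sub_add_cancel (Finset.le_sup (f := K) (Finset.mem_univ j) : K j ≤ m)]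
  have h2 : ∀ p : Fin r × Fin r, ∃ L : ℕ, algebraMap A B (a l) ^ L •
      (algebraMap A B (a l) ^ m • f p - cech1 M a y p) = 0 := fun p => by
    obtain ⟨j, k⟩ := p
    refine res_eq_zero M (t := a l) ?_
    show tm A M (res (dvd_mul_right (a j * a k) (a l))) (_ - (tm A M (res (dvd_mul_right (a j) (a k))) (y j) -
      tm A M (res (dvd_mul_left (a k) (a j))) (y k))) = 0
    rw [map_sub, map_smul, hf, smul_sub, ← map_smul, ← map_smul, hy, hy, map_sub, res_res, res_res, res_res, res_res,
      sub_self]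
  choose L hL using h2
  let L' := Finset.univ.sup L
  refine ⟨L' + m, (Submodule.Quotient.mk_eq_zero _).mpr ⟨algebraMap A B (a l) ^ L' • y, funext fun p => ?_⟩⟩
  have h' : algebraMap A B (a l) ^ L' • (algebraMap A B (a l) ^ m • f p - cech1 M a y p) = 0 := by
    rw [show L' = (L' - L p) + L p from
      (Nat.sub_add_cancel (Finset.le_sup (f := L) (Finset.mem_univ p) : L p ≤ L')).symm, pow_add, mul_smul, hL, smul_zero]
  rw [smul_sub, sub_eq_zero, smul_smul, ← pow_add] at h'
  show cech1 M a (algebraMap A B (a l) ^ L' • y) p = algebraMap A B (a l) ^ (L' + m) • f p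
  rw [map_smul, Pi.smul_apply, h']

section bc

variable (C : Type u) [CommRing C] [Algebra A C] [Algebra B C] [IsScalarTower A B C]

/-- The map between the localizations. -/
noncomputable def bc (s : A) : Rb B s →ₐ[B] Rb C s :=
  IsLocalization.Away.liftAlgHom (A := B) (f := Algebra.ofId B (Rb C s)) (algebraMap A B s) (by
    show IsUnit (algebraMap B (Rb C s) (algebraMap A B s))
    rw [← IsScalarTower.algebraMap_apply, IsScalarTower.algebraMap_apply A C (Rb C s)]
    exact IsLocalization.Away.algebraMap_isUnit _)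

theorem isBaseChange_bc (s : A) : IsBaseChange C (tm A M (bc (B := B) C s)) := by
  letI : Algebra (Rb B s) (Rb C s) := (bc C s).toRingHom.toAlgebra
  haveI : IsScalarTower B (Rb B s) (Rb C s) := .of_algebraMap_eq fun b => ((bc C s).commutes b).symm
  haveI : IsScalarTower A (Rb B s) (Rb C s) := .of_algebraMap_eq fun x => by
    rw [IsScalarTower.algebraMap_apply A B (Rb B s), IsScalarTower.algebraMap_apply A B (Rb C s)]
    exact ((bc C s).commutes _).symm
  haveI : IsLocalization (Algebra.algebraMapSubmonoid C (Submonoid.powers (algebraMap A B s))) (Rb C s) := by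
    rw [Algebra.algebraMapSubmonoid, Submonoid.map_powers, ← IsScalarTower.algebraMap_apply]
    infer_instance
  haveI : Algebra.IsPushout B C (Rb B s) (Rb C s) :=
    Algebra.isPushout_of_isLocalization (Submonoid.powers (algebraMap A B s)) (Rb B s) C (Rb C s)
  let f : Rb B s ⊗[A] M →ₗ[Rb B s] Rb C s ⊗[A] M :=
    TensorProduct.AlgebraTensorModule.map (Algebra.linearMap (Rb B s) (Rb C s)) LinearMap.id
  have hf : IsBaseChange (Rb C s) f := by
    refine IsBaseChange.of_comp (TensorProduct.isBaseChange A M (Rb B s)) ?_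
    have : f.restrictScalars A ∘ₗ TensorProduct.mk A (Rb B s) M 1 = TensorProduct.mk A (Rb C s) M 1 :=
      LinearMap.ext fun m => by simp [f]
    rw [this]
    exact TensorProduct.isBaseChange A M (Rb C s)
  have h := FlatMorOne.isBaseChange_restrict (A := B) (R := C) (SA := Rb B s) (S := Rb C s) hf
  have : f.restrictScalars B = tm A M (bc C s) := TensorProduct.AlgebraTensorModule.curry_injective
    (LinearMap.ext fun x => LinearMap.ext fun m => rfl)
  rwa [this] at h

theorem bc_base (s : A) (n : B ⊗[A] M) :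
    tm A M (bc C s) (tm A M (Algebra.ofId B (Rb B s)) n) =
      tm A M (Algebra.ofId C (Rb C s)) (tm A M (Algebra.ofId B C) n) := by
  induction n with
  | zero => simp
  | tmul b m =>
    simp only [tm_tmul, Algebra.ofId_apply]
    rw [← IsScalarTower.algebraMap_apply B C (Rb C s)]
    exact congrArg (· ⊗ₜ[A] m) ((bc C s).commutes b)
  | add x y hx hy => simp only [map_add, hx, hy]

theorem bc_res {s t : A} (h : s ∣ t) (w : Rb B s ⊗[A] M) :
    tm A M (bc C t) (tm A M (res h) w) = tm A M (res (B := C) h) (tm A M (bc C s) w) := by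
  induction w with
  | zero => simp
  | tmul x m =>
    simp only [tm_tmul]
    exact congrArg (· ⊗ₜ[A] m)
      (AlgHom.congr_fun (algHom_ext ((bc C t).comp (res h)) (((res (B := C) h).restrictScalars B).comp (bc C s))) x)
  | add x y hx hy => simp only [map_add, hx, hy]

variable [Module.Flat B C] (hI : ModBij B C I)

theorem cech1_bc (g : ∀ j, Rb B (a j) ⊗[A] M) (p : Fin r × Fin r) :
    cech1 (B := C) M a (fun j => tm A M (bc (B := B) C (a j)) (g j)) p =
      tm A M (bc (B := B) C (a p.1 * a p.2)) (cech1 M a g p) := by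
  simp only [cech1, LinearMap.pi_apply, LinearMap.sub_apply, LinearMap.comp_apply, LinearMap.proj_apply, map_sub, bc_res]

include hI hIa in
/-- A compatible cocycle is a coboundary. -/
theorem cech_solve (e : ∀ j, Rb C (a j) ⊗[A] M) (f : ∀ p : Fin r × Fin r, Rb B (a p.1 * a p.2) ⊗[A] M)
    (hf : ∀ j k l, tm A M (res (dvd_mul_right (a j * a k) (a l))) (f (j, k)) =
      tm A M (res (mul_dvd_mul_right (dvd_mul_right (a j) (a k)) (a l))) (f (j, l)) -
        tm A M (res (mul_dvd_mul_right (dvd_mul_left (a k) (a j)) (a l))) (f (k, l)))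
    (he : ∀ j k, tm A M (res (B := C) (dvd_mul_right (a j) (a k))) (e j) -
      tm A M (res (B := C) (dvd_mul_left (a k) (a j))) (e k) = tm A M (bc C (a j * a k)) (f (j, k))) :
    ∃ (x : C ⊗[A] M) (y : ∀ j, Rb B (a j) ⊗[A] M), cech1 M a y = f ∧
      ∀ j, e j = tm A M (bc C (a j)) (y j) + tm A M (Algebra.ofId C (Rb C (a j))) x := by
  let βX := LinearMap.pi fun j => tm A M (bc (B := B) C (a j)) ∘ₗ LinearMap.proj j
  let βY := LinearMap.pi fun p : Fin r × Fin r => tm A M (bc (B := B) C (a p.1 * a p.2)) ∘ₗ LinearMap.proj p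
  have hX : IsBaseChange C βX := IsBaseChange.pi _ fun j => isBaseChange_bc M C (a j)
  have hY : IsBaseChange C βY :=
    IsBaseChange.pi _ fun p : Fin r × Fin r => isBaseChange_bc M C (a p.1 * a p.2)
  have hN : IsBaseChange C (tm A M (Algebra.ofId B C)) := isBaseChange_tm_ofId M C
  have hc₂ : ∀ g, cech1 M a (βX g) = βY (cech1 M a g) := fun g => funext (cech1_bc M a C g)
  have hc₁ : ∀ n, cech0 M a (tm A M (Algebra.ofId B C) n) = βX (cech0 M a n) :=
    fun n => funext fun j => (bc_base M C (a j) n).symm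
  obtain ⟨y, hy⟩ := mem_range_of_tors hI (cech1 M a) (cech1 (B := C) M a) βX βY hX hY hc₂ f
    (isITors_cocycle M a hIa f hf) e (funext fun p => he p.1 p.2)
  obtain ⟨g, x, hg, hgx⟩ := exists_sub_mem_range hI (cech0 M a) (cech1 M a) (cech0 (B := C) M a) (cech1 (B := C) M a)
    (tm A M (Algebra.ofId B C)) βX βY hN hX hY hc₁ hc₂ (isITors_cech1 M a hIa) (e - βX y) (by
      rw [map_sub, hc₂, hy, sub_eq_zero]; exact funext fun p => he p.1 p.2)
  refine ⟨x, y + g, by rw [map_add, hy, hg, add_zero], fun j => ?_⟩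
  have := congrFun hgx j
  rw [Pi.sub_apply, sub_eq_iff_eq_add] at this
  rw [this, show (y + g) j = y j + g j from rfl, map_add (tm A M (bc (B := B) C (a j)))]
  show tm A M (bc C (a j)) (g j) + tm A M (Algebra.ofId C _) x + tm A M (bc C (a j)) (y j) = _
  abel

include hI hIa in
/-- Torsion over `C` comes from torsion over `B`. -/
theorem exists_torsion_preimage (x : C ⊗[A] M) (hx : ∀ j, tm A M (Algebra.ofId C (Rb C (a j))) x = 0) :
    ∃ n : B ⊗[A] M, tm A M (Algebra.ofId B C) n = x ∧ ∀ j, tm A M (Algebra.ofId B (Rb B (a j))) n = 0 := by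
  have hN : IsBaseChange C (tm A M (Algebra.ofId B C)) := isBaseChange_tm_ofId M C
  have hX : IsBaseChange C (LinearMap.pi fun j => tm A M (bc (B := B) C (a j)) ∘ₗ LinearMap.proj j) :=
    IsBaseChange.pi _ fun j => isBaseChange_bc M C (a j)
  have hZ : IsBaseChange C (0 : PUnit.{u + 1} →ₗ[B] PUnit.{u + 1}) :=
    IsBaseChange.of_equiv
      (LinearEquiv.ofBijective (0 : C ⊗[B] PUnit.{u + 1} →ₗ[C] PUnit.{u + 1})
        ⟨fun v w _ => Subsingleton.elim v w, fun v => ⟨0, Subsingleton.elim _ _⟩⟩) fun _ => Subsingleton.elim _ _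
  obtain ⟨n, z, hn, hnz⟩ := exists_sub_mem_range hI (0 : PUnit.{u + 1} →ₗ[B] B ⊗[A] M) (cech0 M a)
    (0 : PUnit.{u + 1} →ₗ[C] C ⊗[A] M) (cech0 (B := C) M a) 0 (tm A M (Algebra.ofId B C))
    (LinearMap.pi fun j => tm A M (bc (B := B) C (a j)) ∘ₗ LinearMap.proj j) hZ hN hX (fun _ => by simp)
    (fun n => funext fun j => (bc_base M C (a j) n).symm)
    (fun g hg => by
      obtain ⟨m, hm⟩ := isITors_cech0 M a hIa g hg
      exact ⟨m, fun b hb => by rw [← map_smul, hm b hb, map_zero]⟩) x (funext hx)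
  refine ⟨n, ?_, fun j => congrFun hn j⟩
  rw [hnz, LinearMap.zero_apply, add_zero]

include hI hIa in
/-- Compatible sections come from the module. -/
theorem cech_kernel (x : C ⊗[A] M) (y : ∀ j, Rb B (a j) ⊗[A] M) (hy : cech1 M a y = 0)
    (hxy : ∀ j, tm A M (Algebra.ofId C (Rb C (a j))) x = tm A M (bc C (a j)) (y j)) :
    ∃ n : B ⊗[A] M, tm A M (Algebra.ofId B C) n = x ∧ ∀ j, tm A M (Algebra.ofId B (Rb B (a j))) n = y j := by
  obtain ⟨n, hn⟩ := mem_range_of_tors hI (cech0 M a) (cech0 (B := C) M a) (tm A M (Algebra.ofId B C))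
    (LinearMap.pi fun j => tm A M (bc (B := B) C (a j)) ∘ₗ LinearMap.proj j)
    (isBaseChange_tm_ofId M C) (IsBaseChange.pi _ fun j => isBaseChange_bc M C (a j))
    (fun n => funext fun j => (bc_base M C (a j) n).symm) y (isITors_cech1 M a hIa y hy) x (funext hxy)
  obtain ⟨n', hn', hn''⟩ := exists_torsion_preimage M a hIa C hI (x - tm A M (Algebra.ofId B C) n) fun j => by
    rw [map_sub, ← bc_base, hxy, show tm A M (Algebra.ofId B (Rb B (a j))) n = y j from congrFun hn j, sub_self]
  refine ⟨n + n', by rw [map_add, hn', add_sub_cancel], fun j => ?_⟩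
  rw [map_add, hn'' j, add_zero]
  exact congrFun hn j

end bc

end square

end Groth.AdicEtaleLift
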