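import Mathlib

/-!
The kernel of a square-zero reduction as an image of `R ⊗ J`.
-/

set_option autoImplicit false
universe u

open TensorProduct

namespace Groth.AdicEtaleLift

variable {A : Type u} [CommRing A] (J : Ideal A)

/-- `m` describes the kernel of `π` through `R ⊗ J`. -/
structure IsKerMap {E R : Type u} [CommRing E] [CommRing R] [Algebra A E] [Algebra A R] (π : E →ₐ[A] R)
    (m : R ⊗[A] J →ₗ[A] E) : Prop where
  apply_tmul : ∀ (e : E) (q : J), m (π e ⊗ₜ q) = algebraMap A E q * e
  mem_iff : ∀ z, π z = 0 ↔ ∃ w, m w = z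

theorem exists_kerMap (hJ : J * J = ⊥) {E R : Type u} [CommRing E] [CommRing R] [Algebra A E] [Algebra A R]
    (π : E →ₐ[A] R) (hπ : Function.Surjective π) (hker : RingHom.ker π.toRingHom = J.map (algebraMap A E)) :
    ∃ m : R ⊗[A] J →ₗ[A] E, IsKerMap J π m ∧ (Module.Flat A E → Function.Injective m) := by
  let ψ : E ⊗[A] J →ₗ[A] E := TensorProduct.rid A E ∘ₗ J.subtype.lTensor E
  have hψ : ∀ (e : E) (q : J), ψ (e ⊗ₜ q) = algebraMap A E q * e := fun e q => by
    simp [ψ, Algebra.smul_def]
  let P : E ⊗[A] J →ₗ[A] R ⊗[A] J := π.toLinearMap.rTensor J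
  have hP : Function.Surjective P := LinearMap.rTensor_surjective J hπ
  have hPk : ∀ w, P w = 0 → w = 0 := fun w hw => by
    obtain ⟨v, rfl⟩ := ((rTensor_exact J (LinearMap.exact_subtype_ker_map π.toLinearMap) hπ) w).mp hw
    clear hw
    induction v with
    | zero => simp
    | tmul z q =>
      have hz : z.1 ∈ J.map (algebraMap A E) := hker ▸ z.2
      rw [LinearMap.rTensor_tmul]
      show z.1 ⊗ₜ[A] q = 0
      generalize hz1 : z.1 = x at hz ⊢
      clear hz1 z
      have key : ∀ t : E, (t * x) ⊗ₜ[A] q = 0 := by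
        induction hz using Submodule.span_induction with
        | mem x hx =>
          obtain ⟨c, hc, rfl⟩ := hx
          intro t
          rw [mul_comm, ← Algebra.smul_def, smul_tmul]
          have : c • q = 0 := Subtype.ext (show c * q.1 = 0 from by
            have := Ideal.mul_mem_mul hc q.2
            rwa [hJ] at this)
          rw [this, tmul_zero]
        | zero => intro t; rw [mul_zero, zero_tmul]
        | add x y _ _ hx hy => intro t; rw [mul_add, add_tmul, hx, hy, add_zero]
        | smul r x _ hx => intro t; rw [smul_eq_mul, ← mul_assoc]; exact hx (t * r)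
      simpa using key 1
    | add x y hx hy => rw [map_add, hx, hy, add_zero]
  let e := LinearEquiv.ofBijective P ⟨(injective_iff_map_eq_zero P).mpr hPk, hP⟩
  have he : ∀ (e' : E) (q : J), e.symm (π e' ⊗ₜ q) = e' ⊗ₜ q := fun e' q => e.symm_apply_eq.mpr rfl
  refine ⟨ψ ∘ₗ e.symm.toLinearMap, ⟨fun e' q => by simp [he, hψ], fun z => ⟨fun hz => ?_, ?_⟩⟩, fun hflat => ?_⟩
  · have hz' : z ∈ J.map (algebraMap A E) := hker ▸ hz
    induction hz' using Submodule.span_induction with
    | mem x hx =>
      obtain ⟨c, hc, rfl⟩ := hx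
      exact ⟨π 1 ⊗ₜ ⟨c, hc⟩, by simp only [LinearMap.comp_apply, LinearEquiv.coe_coe]; rw [he, hψ, mul_one]⟩
    | zero => exact ⟨0, map_zero _⟩
    | add x y hxs hys hx hy =>
      have h0 : ∀ x ∈ J.map (algebraMap A E), π x = 0 := fun x hx => (hker.symm ▸ hx : x ∈ RingHom.ker π.toRingHom)
      obtain ⟨v, hv⟩ := hx (h0 x hxs)
      obtain ⟨w, hw⟩ := hy (h0 y hys)
      exact ⟨v + w, by rw [map_add, hv, hw]⟩
    | smul r x hxs hx =>
      have h0 : π x = 0 := (hker.symm ▸ hxs : x ∈ RingHom.ker π.toRingHom)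
      obtain ⟨v, hv⟩ := hx h0
      obtain ⟨v', rfl⟩ := e.surjective v
      refine ⟨e (LinearMap.rTensor J (LinearMap.mulLeft A r) v'), ?_⟩
      simp only [LinearMap.comp_apply, LinearEquiv.coe_coe, LinearEquiv.symm_apply_apply] at hv ⊢
      rw [← hv, smul_eq_mul]
      clear hv
      induction v' with
      | zero => simp
      | tmul a b => simp [hψ]; ring
      | add a b ha hb => simp only [map_add, ha, hb, mul_add]
  · rintro ⟨w, rfl⟩
    obtain ⟨v, rfl⟩ := e.surjective w
    simp only [LinearMap.comp_apply, LinearEquiv.coe_coe, LinearEquiv.symm_apply_apply]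
    induction v with
    | zero => simp
    | tmul a b =>
      have : π (algebraMap A E b) = 0 := (hker.symm ▸ Ideal.mem_map_of_mem _ b.2 : algebraMap A E b ∈ RingHom.ker π.toRingHom)
      rw [hψ, map_mul, this, zero_mul]
    | add a b ha hb => simp only [map_add, ha, hb, add_zero]
  · haveI := hflat
    exact ((TensorProduct.rid A E).injective.comp
      (Module.Flat.lTensor_preserves_injective_linearMap J.subtype Subtype.val_injective)).comp e.symm.injective

variable {J}

theorem IsKerMap.natural {E R E' R' : Type u} [CommRing E] [CommRing R] [CommRing E'] [CommRing R'] [Algebra A E]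
    [Algebra A R] [Algebra A E'] [Algebra A R'] {π : E →ₐ[A] R} {m : R ⊗[A] J →ₗ[A] E} (hm : IsKerMap J π m)
    (hπ : Function.Surjective π) {π' : E' →ₐ[A] R'} {m' : R' ⊗[A] J →ₗ[A] E'} (hm' : IsKerMap J π' m')
    (φ : E →ₐ[A] E') (g : R → R') (hg : ∀ e, π' (φ e) = g (π e)) (G : R ⊗[A] J → R' ⊗[A] J)
    (hG0 : G 0 = 0) (hGt : ∀ r q, G (r ⊗ₜ q) = g r ⊗ₜ q) (hGa : ∀ x y, G (x + y) = G x + G y) (w : R ⊗[A] J) :
    m' (G w) = φ (m w) := by
  induction w with
  | zero => simp [hG0]
  | tmul r q =>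
    obtain ⟨e, rfl⟩ := hπ r
    rw [hGt, ← hg, hm'.apply_tmul, hm.apply_tmul, map_mul, AlgHom.commutes]
  | add x y hx hy => rw [hGa, map_add, map_add, map_add, hx, hy]

end Groth.AdicEtaleLift
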