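import Groth.Agent.AdicEtaleLift.Step

/-!
Lifting along a nilpotent ideal by induction on the order of nilpotency.
-/

set_option autoImplicit false
universe u

open TensorProduct

namespace Groth.AdicEtaleLift

theorem etale_of_quotient {A A' E X : Type u} [CommRing A] [CommRing A'] [CommRing E] [CommRing X] [Algebra A A']
    [Algebra A E] [Algebra A' X] [Algebra A X] [IsScalarTower A A' X] [Algebra.Etale A E]
    (hA : Function.Surjective (algebraMap A A')) (π : E →ₐ[A] X) (hπ : Function.Surjective π)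
    (hker : RingHom.ker π.toRingHom = (RingHom.ker (algebraMap A A')).map (algebraMap A E)) :
    Algebra.Etale A' X := by
  let μ : A' ⊗[A] E →ₐ[A'] X := Algebra.TensorProduct.lift (Algebra.ofId A' X) π fun _ _ => Commute.all _ _
  have h1 : ∀ z : A' ⊗[A] E, ∃ e, z = 1 ⊗ₜ e := fun z => by
    induction z with
    | zero => exact ⟨0, (tmul_zero _ _).symm⟩
    | tmul a' e =>
      obtain ⟨a, rfl⟩ := hA a'
      exact ⟨a • e, by rw [Algebra.algebraMap_eq_smul_one, smul_tmul]⟩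
    | add x y hx hy =>
      obtain ⟨e, rfl⟩ := hx
      obtain ⟨e', rfl⟩ := hy
      exact ⟨e + e', (tmul_add _ _ _).symm⟩
  refine Algebra.Etale.of_equiv (AlgEquiv.ofBijective μ ⟨(injective_iff_map_eq_zero μ).mpr fun z hz => ?_, fun x => ?_⟩)
  · obtain ⟨e, rfl⟩ := h1 z
    have he : π e = 0 := by simpa [μ] using hz
    have hm : e ∈ (RingHom.ker (algebraMap A A')).map (algebraMap A E) := hker ▸ he
    clear he hz
    induction hm using Submodule.span_induction with
    | mem x hx =>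
      obtain ⟨c, hc, rfl⟩ := hx
      rw [Algebra.algebraMap_eq_smul_one, ← smul_tmul, ← Algebra.algebraMap_eq_smul_one, hc, zero_tmul]
    | zero => rw [tmul_zero]
    | add x y _ _ hx hy => rw [tmul_add, hx, hy, add_zero]
    | smul r x _ hx =>
      rw [smul_eq_mul, show (1 : A') ⊗ₜ[A] (r * x) = ((1 : A') ⊗ₜ[A] r) * ((1 : A') ⊗ₜ[A] x) by simp, hx, mul_zero]
  · obtain ⟨e, rfl⟩ := hπ x
    exact ⟨1 ⊗ₜ e, by simp [μ]⟩

theorem modBij_of_thickening {A B₁ C₁ B₀ C₀ : Type u} [CommRing A] [CommRing B₁] [CommRing C₁] [CommRing B₀]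
    [CommRing C₀] [Algebra A B₁] [Algebra A C₁] [Algebra A B₀] [Algebra A C₀] [Algebra B₁ C₁] [Algebra B₀ C₀]
    [IsScalarTower A B₁ C₁] [IsScalarTower A B₀ C₀] [Module.Flat B₁ C₁] (I J : Ideal A) {k : ℕ} (hJ : J ^ k = ⊥)
    (πB : B₁ →ₐ[A] B₀) (hπB : Function.Surjective πB) (hkB : RingHom.ker πB.toRingHom = J.map (algebraMap A B₁))
    (πC : C₁ →ₐ[A] C₀) (hkC : RingHom.ker πC.toRingHom = J.map (algebraMap A C₁))
    (hcomm : ∀ b, algebraMap B₀ C₀ (πB b) = πC (algebraMap B₁ C₁ b))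
    (hπC : Function.Surjective πC)
    (h₀ : ModBij B₀ C₀ (I.map (algebraMap A B₀))) : ModBij B₁ C₁ (I.map (algebraMap A B₁)) := by
  classical
  have hIC : ∀ (B C : Type u) [CommRing B] [CommRing C] [Algebra A B] [Algebra A C] [Algebra B C] [IsScalarTower A B C],
      (I.map (algebraMap A B)).map (algebraMap B C) = I.map (algebraMap A C) := fun B C _ _ _ _ _ _ => by
    rw [Ideal.map_map, ← IsScalarTower.algebraMap_eq]
  refine ⟨fun c => ?_, fun b hb => ?_⟩
  · rw [hIC B₁ C₁]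
    let N : Submodule A C₁ := LinearMap.range (IsScalarTower.toAlgHom A B₁ C₁).toLinearMap ⊔
      (I.map (algebraMap A C₁)).restrictScalars A
    have hI₁ : Ideal.map πC (I.map (algebraMap A C₁)) = I.map (algebraMap A C₀) := by
      rw [← Ideal.map_coe πC, Ideal.map_map]
      exact congrArg (Ideal.map · I) πC.comp_algebraMap
    have hN : N ⊔ J • (⊤ : Submodule A C₁) = ⊤ := eq_top_iff.mpr fun x _ => by
      obtain ⟨b₀, hb₀⟩ := h₀.surj (πC x)
      obtain ⟨b, rfl⟩ := hπB b₀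
      rw [hIC B₀ C₀, hcomm, ← map_sub, ← hI₁, Ideal.mem_map_iff_of_surjective _ hπC] at hb₀
      obtain ⟨i, hi, hie⟩ := hb₀
      have hk : algebraMap B₁ C₁ b - x - i ∈ J.map (algebraMap A C₁) := hkC ▸
        (show πC (algebraMap B₁ C₁ b - x - i) = 0 by rw [map_sub, hie, sub_self])
      rw [show x = (algebraMap B₁ C₁ b - i) - (algebraMap B₁ C₁ b - x - i) by ring]
      refine sub_mem (Submodule.mem_sup_left (sub_mem (Submodule.mem_sup_left ⟨b, rfl⟩) (Submodule.mem_sup_right hi))) ?_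
      refine Submodule.mem_sup_right ?_
      rw [Ideal.smul_top_eq_map]
      exact hk
    have hpow : ∀ m : ℕ, N ⊔ J ^ m • (⊤ : Submodule A C₁) = ⊤ := fun m => by
      induction m with
      | zero => rw [pow_zero, Ideal.one_eq_top, Submodule.top_smul, sup_top_eq]
      | succ m ih =>
        refine eq_top_iff.mpr (le_of_eq_of_le ih.symm (sup_le le_sup_left ?_))
        calc J ^ m • (⊤ : Submodule A C₁) = J ^ m • (N ⊔ J • ⊤) := by rw [hN]
          _ = J ^ m • N ⊔ J ^ m • J • ⊤ := Submodule.smul_sup _ _ _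
          _ ≤ N ⊔ J ^ (m + 1) • ⊤ := sup_le_sup Submodule.smul_le_right (le_of_eq (by rw [pow_succ, ← Submodule.smul_assoc, Ideal.smul_eq_mul]))
    have htop := hpow k
    rw [hJ, Submodule.bot_smul, sup_bot_eq] at htop
    obtain ⟨_, ⟨b, rfl⟩, i, hi, hbi⟩ := Submodule.mem_sup.mp (htop ▸ Submodule.mem_top (x := c) : c ∈ N)
    exact ⟨b, by rw [show algebraMap B₁ C₁ b - c = -i by rw [← hbi]; exact sub_add_cancel_left _ _]; exact neg_mem hi⟩
  · let I₁ := I.map (algebraMap A B₁)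
    let x : B₁ ⧸ I₁ := Ideal.Quotient.mk I₁ b
    let T : Ideal B₁ := Ideal.torsionOf B₁ (B₁ ⧸ I₁) x
    let q : B₁ ⧸ T →ₗ[B₁] B₁ ⧸ I₁ := Submodule.liftQ T (LinearMap.toSpanSingleton B₁ _ x) le_rfl
    have hq : Function.Injective q := by
      rw [← LinearMap.ker_eq_bot]
      exact Submodule.ker_liftQ_eq_bot _ _ _ le_rfl
    have hx : (1 : C₁) ⊗ₜ[B₁] x = 0 := by
      apply (TensorProduct.tensorQuotEquivQuotSMul C₁ I₁).injective
      rw [TensorProduct.tensorQuotEquivQuotSMul_tmul_mk, map_zero, Submodule.Quotient.mk_eq_zero, Ideal.smul_top_eq_map,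
        Submodule.restrictScalars_mem, Algebra.smul_def, mul_one]
      exact hb
    have h1 : (1 : C₁) ⊗ₜ[B₁] (Ideal.Quotient.mk T 1) = 0 :=
      Module.Flat.lTensor_preserves_injective_linearMap q hq (by
        rw [LinearMap.lTensor_tmul, map_zero]
        refine (congrArg (fun y => (1 : C₁) ⊗ₜ[B₁] y) ?_).trans hx
        show (1 : B₁) • x = x
        rw [one_smul])
    have h2 := congrArg (TensorProduct.tensorQuotEquivQuotSMul C₁ T) h1
    rw [TensorProduct.tensorQuotEquivQuotSMul_tmul_mk, map_zero, one_smul, Submodule.Quotient.mk_eq_zero,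
      Ideal.smul_top_eq_map, Submodule.restrictScalars_mem] at h2
    by_contra hbI
    have hTne : T ≠ ⊤ := fun h => hbI (Ideal.Quotient.eq_zero_iff_mem.mp (by
      have := (Ideal.mem_torsionOf_iff x (1 : B₁)).mp (show (1 : B₁) ∈ T from h ▸ trivial)
      rwa [one_smul] at this))
    obtain ⟨P, hP, hTP⟩ := Ideal.exists_le_maximal T hTne
    have hkP : RingHom.ker πB.toRingHom ≤ P := fun z hz => by
      refine hP.isPrime.mem_of_pow_mem k ?_
      have h := Ideal.pow_mem_pow (hkB ▸ hz : z ∈ J.map (algebraMap A B₁)) k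
      rw [← Ideal.map_pow, hJ, Ideal.map_bot] at h
      exact (h : z ^ k = 0) ▸ P.zero_mem
    have hIP : I₁ ≤ P := fun z hz => hTP ((Ideal.mem_torsionOf_iff x z).mpr (by
      rw [show x = Ideal.Quotient.mk I₁ b from rfl, Algebra.smul_def, Ideal.Quotient.algebraMap_eq,
        Ideal.Quotient.eq_zero_iff_mem.mpr hz, zero_mul]))
    let P₀ := P.map πB.toRingHom
    haveI : P₀.IsPrime := Ideal.map_isPrime_of_surjective hπB hkP
    have hle : I.map (algebraMap A B₀) ≤ P₀ := by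
      rw [← πB.comp_algebraMap, ← Ideal.map_map]
      exact Ideal.map_mono hIP
    have hmem : (1 : C₀) ∈ P₀.map (algebraMap B₀ C₀) := by
      have := Ideal.mem_map_of_mem πC.toRingHom (Ideal.map_mono hTP h2)
      rw [Ideal.map_map, map_one, show πC.toRingHom.comp (algebraMap B₁ C₁) =
        (algebraMap B₀ C₀).comp πB.toRingHom from RingHom.ext fun z => (hcomm z).symm, ← Ideal.map_map] at this
      exact this
    exact Ideal.IsPrime.ne_top inferInstance (h₀.eq_top_of_one_mem (m := 1) (by rw [pow_one]; exact hle) hmem)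

set_option maxHeartbeats 1600000 in
theorem exists_lift_nilpotent : ∀ (k : ℕ) {A : Type u} [CommRing A] (I J : Ideal A) (_ : I.FG) (_ : J ^ k = ⊥)
    (C : Type u) [CommRing C] [Algebra A C] (_ : ∀ a ∈ I, Algebra.Etale A (Localization.Away (algebraMap A C a)))
    (B₀ C₀ : Type u) [CommRing B₀] [CommRing C₀] [Algebra A B₀] [Algebra A C₀] [Algebra B₀ C₀] [IsScalarTower A B₀ C₀]
    [Algebra (A ⧸ J) B₀] [IsScalarTower A (A ⧸ J) B₀] [Algebra.FiniteType A B₀] [Algebra.Etale B₀ C₀]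
    (_ : ∀ a ∈ I, Algebra.Etale (A ⧸ J) (Localization.Away (algebraMap A B₀ a)))
    (πC : C →ₐ[A] C₀) (_ : Function.Surjective πC) (_ : RingHom.ker πC.toRingHom = J.map (algebraMap A C))
    (_ : ModBij B₀ C₀ (I.map (algebraMap A B₀))),
    ∃ (B : Type u) (_ : CommRing B) (_ : Algebra A B) (_ : Algebra B C) (_ : IsScalarTower A B C)
      (πB : B →ₐ[A] B₀), Algebra.FiniteType A B ∧ Algebra.Etale B C ∧
      (∀ a ∈ I, Algebra.Etale A (Localization.Away (algebraMap A B a))) ∧ Function.Surjective πB ∧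
      RingHom.ker πB.toRingHom = J.map (algebraMap A B) ∧
      ∀ b, algebraMap B₀ C₀ (πB b) = πC (algebraMap B C b) := by
  intro k
  induction k using Nat.strong_induction_on with
  | _ k ih =>
  intro A _ I J hI hk C _ _ hC B₀ C₀ _ _ _ _ _ _ _ _ _ _ hB₀ πC hπC hkC hmod
  by_cases hk2 : k ≤ 2
  · refine exists_lift_sq_zero I J hI ?_ C hC B₀ C₀ hB₀ πC hπC hkC hmod
    rw [← pow_two, eq_bot_iff, ← hk]
    exact Ideal.pow_le_pow_right hk2
  let J' := J ^ (k - 1)
  have hJ' : J' * J' = ⊥ := by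
    rw [← pow_add, eq_bot_iff, ← hk]
    exact Ideal.pow_le_pow_right (by omega)
  have hle : J' ≤ J := Ideal.pow_le_self (by omega)
  let J₁ : Ideal (A ⧸ J') := J.map (Ideal.Quotient.mk J')
  have hJ₁ : J₁ ^ (k - 1) = ⊥ := by rw [← Ideal.map_pow, Ideal.map_quotient_self]
  let e₂ : (A ⧸ J') ⧸ J₁ →+* A ⧸ J := (DoubleQuot.quotQuotEquivQuotOfLE hle).toRingHom
  letI : Algebra ((A ⧸ J') ⧸ J₁) B₀ := ((algebraMap (A ⧸ J) B₀).comp e₂).toAlgebra
  letI : Algebra (A ⧸ J') B₀ := ((algebraMap ((A ⧸ J') ⧸ J₁) B₀).comp (Ideal.Quotient.mk J₁)).toAlgebra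
  haveI key : @IsScalarTower (A ⧸ J') ((A ⧸ J') ⧸ J₁) B₀ Algebra.toSMul Algebra.toSMul Algebra.toSMul :=
    .of_algebraMap_eq fun _ => rfl
  haveI : IsScalarTower (A ⧸ J') ((A ⧸ J') ⧸ J₁) B₀ := ⟨key.smul_assoc⟩
  have hAB₀ : ∀ x : A, algebraMap (A ⧸ J') B₀ (Ideal.Quotient.mk J' x) = algebraMap A B₀ x := fun x => by
    show algebraMap (A ⧸ J) B₀ (DoubleQuot.quotQuotEquivQuotOfLE hle (DoubleQuot.quotQuotMk J' J x)) = _
    rw [DoubleQuot.quotQuotEquivQuotOfLE_quotQuotMk, ← Ideal.Quotient.algebraMap_eq, ← IsScalarTower.algebraMap_apply]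
  haveI : IsScalarTower A (A ⧸ J') B₀ := .of_algebraMap_eq fun x => (hAB₀ x).symm
  haveI : Algebra.FiniteType (A ⧸ J') B₀ := Algebra.FiniteType.of_restrictScalars_finiteType A _ _
  letI : Algebra (A ⧸ J') C₀ := ((algebraMap B₀ C₀).comp (algebraMap (A ⧸ J') B₀)).toAlgebra
  haveI : IsScalarTower (A ⧸ J') B₀ C₀ := .of_algebraMap_eq fun _ => rfl
  haveI : IsScalarTower A (A ⧸ J') C₀ := .of_algebraMap_eq fun x => by
    show _ = algebraMap B₀ C₀ _
    rw [Ideal.Quotient.algebraMap_eq, hAB₀, ← IsScalarTower.algebraMap_apply]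
  let C' := C ⧸ J'.map (algebraMap A C)
  haveI : IsScalarTower A (A ⧸ J') C' := .of_algebraMap_eq fun _ => rfl
  have hI' : (I.map (Ideal.Quotient.mk J')).FG := Ideal.FG.map hI _
  have hC' : ∀ a ∈ I.map (Ideal.Quotient.mk J'),
      Algebra.Etale (A ⧸ J') (Localization.Away (algebraMap (A ⧸ J') C' a)) := fun a ha => by
    obtain ⟨a, haI, rfl⟩ := (Ideal.mem_map_iff_of_surjective _ Ideal.Quotient.mk_surjective).mp ha
    haveI := hC a haI
    obtain ⟨π', -, hπ's, hπ'k⟩ := exists_redHom J' (Ideal.Quotient.mkₐ A (J'.map (algebraMap A C)))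
      Ideal.Quotient.mk_surjective Ideal.mk_ker a
    haveI h := etale_of_quotient (A := A) (A' := A ⧸ J') (E := Rb C a) (X := Rb C' a) Ideal.Quotient.mk_surjective π'
      hπ's (by rw [hπ'k, Ideal.Quotient.algebraMap_eq, Ideal.mk_ker])
    exact h
  have hB₀' : ∀ a ∈ I.map (Ideal.Quotient.mk J'),
      Algebra.Etale ((A ⧸ J') ⧸ J₁) (Localization.Away (algebraMap (A ⧸ J') B₀ a)) := fun a ha => by
    obtain ⟨a, haI, rfl⟩ := (Ideal.mem_map_iff_of_surjective _ Ideal.Quotient.mk_surjective).mp ha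
    rw [hAB₀ a]
    refine RingHom.etale_algebraMap.mp ?_
    have : algebraMap ((A ⧸ J') ⧸ J₁) (Localization.Away (algebraMap A B₀ a)) =
        (algebraMap (A ⧸ J) (Localization.Away (algebraMap A B₀ a))).comp e₂ := by
      rw [IsScalarTower.algebraMap_eq ((A ⧸ J') ⧸ J₁) B₀, IsScalarTower.algebraMap_eq (A ⧸ J) B₀, RingHom.comp_assoc]
      rfl
    rw [this]
    exact RingHom.Etale.respectsIso.2 _ (DoubleQuot.quotQuotEquivQuotOfLE hle) (RingHom.etale_algebraMap.mpr (hB₀ a haI))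
  let πC₁ : C' →ₐ[A ⧸ J'] C₀ :=
    { toRingHom := Ideal.Quotient.lift (J'.map (algebraMap A C)) πC.toRingHom
        (fun z hz => (hkC.symm ▸ Ideal.map_mono hle hz : z ∈ RingHom.ker πC.toRingHom))
      commutes' := fun x => by
        obtain ⟨x, rfl⟩ := Ideal.Quotient.mk_surjective x
        show πC (algebraMap A C x) = _
        rw [AlgHom.commutes, IsScalarTower.algebraMap_apply A (A ⧸ J') C₀]
        rfl }
  have hkC₁ : RingHom.ker πC₁.toRingHom = J₁.map (algebraMap (A ⧸ J') C') := by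
    rw [Ideal.map_map]
    refine (Ideal.ker_quotient_lift _ _).trans ?_
    show (RingHom.ker πC.toRingHom).map (Ideal.Quotient.mk _) = _
    rw [hkC, Ideal.map_map]
    rfl
  have hmod' : ModBij B₀ C₀ ((I.map (Ideal.Quotient.mk J')).map (algebraMap (A ⧸ J') B₀)) := by
    rw [Ideal.map_map, show (algebraMap (A ⧸ J') B₀).comp (Ideal.Quotient.mk J') = algebraMap A B₀ from RingHom.ext hAB₀]
    exact hmod
  obtain ⟨B₁, _, _, _, _, π₁, hft, het, het₁, hπ₁, hk₁, hcomm⟩ := ih (k - 1) (by omega) (I.map (Ideal.Quotient.mk J')) J₁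
    hI' hJ₁ C' hC' B₀ C₀ hB₀' πC₁ (fun y => by obtain ⟨x, rfl⟩ := hπC y; exact ⟨Ideal.Quotient.mk _ x, rfl⟩) hkC₁ hmod'
  letI : Algebra A B₁ := ((algebraMap (A ⧸ J') B₁).comp (Ideal.Quotient.mk J')).toAlgebra
  haveI : IsScalarTower A (A ⧸ J') B₁ := .of_algebraMap_eq fun _ => rfl
  haveI : IsScalarTower A B₁ C' := .of_algebraMap_eq fun x => by
    rw [IsScalarTower.algebraMap_apply A (A ⧸ J') C', IsScalarTower.algebraMap_apply A (A ⧸ J') B₁,
      ← IsScalarTower.algebraMap_apply (A ⧸ J') B₁ C']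
  haveI : Algebra.FiniteType A B₁ := Algebra.FiniteType.trans (S := A ⧸ J') inferInstance hft
  haveI := het
  have hkmap : RingHom.ker (π₁.restrictScalars A).toRingHom = J.map (algebraMap A B₁) := by
    refine (hk₁ : _ = _).trans ?_
    rw [Ideal.map_map]
    rfl
  have hkCmap : RingHom.ker (πC₁.restrictScalars A).toRingHom = J.map (algebraMap A C') := by
    refine (hkC₁ : _ = _).trans ?_
    rw [Ideal.map_map]
    rfl
  have hmod₁ : ModBij B₁ C' (I.map (algebraMap A B₁)) := modBij_of_thickening I J hk (π₁.restrictScalars A) hπ₁ hkmap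
    (πC₁.restrictScalars A) hkCmap hcomm (fun y => by obtain ⟨x, rfl⟩ := hπC y; exact ⟨Ideal.Quotient.mk _ x, rfl⟩) hmod
  have hB₁ : ∀ a ∈ I, Algebra.Etale (A ⧸ J') (Localization.Away (algebraMap A B₁ a)) := fun a ha =>
    het₁ (Ideal.Quotient.mk J' a) (Ideal.mem_map_of_mem _ ha)
  obtain ⟨B, _, _, _, _, πB, hBft, hBet, hB, hπB, hkB, hBcomm⟩ := exists_lift_sq_zero I J' hI hJ' C hC B₁ C' hB₁
    (Ideal.Quotient.mkₐ A _) Ideal.Quotient.mk_surjective Ideal.mk_ker hmod₁
  refine ⟨B, inferInstance, inferInstance, inferInstance, inferInstance, (π₁.restrictScalars A).comp πB, hBft, hBet, hB,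
    hπ₁.comp hπB, ?_, fun b => ?_⟩
  · refine le_antisymm (fun z hz => ?_) ?_
    · have hz' : πB z ∈ (J.map (algebraMap A B)).map πB := by
        rw [← Ideal.map_coe πB, Ideal.map_map, show (πB : B →+* B₁).comp (algebraMap A B) = algebraMap A B₁ from
          πB.comp_algebraMap, ← hkmap]
        exact hz
      obtain ⟨w, hw, hwz⟩ := (Ideal.mem_map_iff_of_surjective _ hπB).mp hz'
      have h' : z - w ∈ J'.map (algebraMap A B) := hkB ▸ (show πB (z - w) = 0 by rw [map_sub, hwz, sub_self])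
      simpa using add_mem (Ideal.map_mono hle h') hw
    · rw [Ideal.map_le_iff_le_comap]
      intro x hx
      show π₁ (πB (algebraMap A B x)) = 0
      rw [AlgHom.commutes]
      exact (hkmap.symm ▸ Ideal.mem_map_of_mem _ hx : algebraMap A B₁ x ∈ RingHom.ker (π₁.restrictScalars A).toRingHom)
  · show algebraMap B₀ C₀ (π₁ (πB b)) = _
    rw [hcomm, hBcomm]
    rfl

end Groth.AdicEtaleLift
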