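import Groth.Agent.AdicEtaleLift.Cech
import Groth.Agent.AdicEtaleLift.KerMap
import Groth.Agent.AlgStBasic.SmoothDescent

/-!
Standard opens of a thickening and their étale lifts.
-/

set_option autoImplicit false
universe u

open TensorProduct

namespace Groth.AdicEtaleLift

variable {A : Type u} [CommRing A] (J : Ideal A)

theorem isNilpotent_map (hJ : J * J = ⊥) (E : Type u) [CommRing E] [Algebra A E] :
    IsNilpotent (J.map (algebraMap A E)) :=
  ⟨2, by rw [pow_two, ← Ideal.map_mul, hJ, Ideal.map_bot]; rfl⟩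

theorem isUnit_of_map {E R : Type u} [CommRing E] [CommRing R] (π : E →+* R) (hπ : Function.Surjective π)
    (hn : IsNilpotent (RingHom.ker π)) {x : E} (hx : IsUnit (π x)) : IsUnit x := by
  obtain ⟨y, hy⟩ := hπ ↑hx.unit⁻¹
  obtain ⟨n, hn⟩ := hn
  have hmem : x * y - 1 ∈ RingHom.ker π := by
    rw [RingHom.mem_ker, map_sub, map_mul, hy, map_one, IsUnit.mul_val_inv, sub_self]
  have hnil : IsNilpotent (x * y - 1) := ⟨n, by
    have := Ideal.pow_mem_pow hmem n
    rw [hn] at this
    exact this⟩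
  have := hnil.isUnit_add_one
  rw [sub_add_cancel] at this
  exact isUnit_of_mul_isUnit_left this

/-- The reduction of a standard open. -/
theorem exists_redHom {C C₀ : Type u} [CommRing C] [Algebra A C] [CommRing C₀] [Algebra A C₀] (π : C →ₐ[A] C₀)
    (hπ : Function.Surjective π) (hker : RingHom.ker π.toRingHom = J.map (algebraMap A C)) (s : A) :
    ∃ π' : Rb C s →ₐ[A] Rb C₀ s, (∀ c, π' (algebraMap C (Rb C s) c) = algebraMap C₀ (Rb C₀ s) (π c)) ∧
      Function.Surjective π' ∧ RingHom.ker π'.toRingHom = J.map (algebraMap A (Rb C s)) := by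
  have hu : IsUnit ((IsScalarTower.toAlgHom A C₀ (Rb C₀ s)).comp π (algebraMap A C s)) := by
    rw [AlgHom.commutes]
    exact (congrArg IsUnit (IsScalarTower.algebraMap_apply A C₀ (Rb C₀ s) s)).mpr
      (IsLocalization.Away.algebraMap_isUnit _)
  let π' : Rb C s →ₐ[A] Rb C₀ s :=
    IsLocalization.Away.liftAlgHom (f := (IsScalarTower.toAlgHom A C₀ (Rb C₀ s)).comp π) (algebraMap A C s) hu
  have hπ' : ∀ c, π' (algebraMap C (Rb C s) c) = algebraMap C₀ (Rb C₀ s) (π c) := fun c =>
    IsLocalization.Away.lift_eq (algebraMap A C s) (S := Rb C s) hu c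
  have hs : ∀ n : ℕ, π' (algebraMap C (Rb C s) (algebraMap A C s ^ n)) =
      algebraMap C₀ (Rb C₀ s) (algebraMap A C₀ s ^ n) := fun n => by rw [hπ', map_pow π, AlgHom.commutes]
  have hu' : ∀ n : ℕ, IsUnit (algebraMap C (Rb C s) (algebraMap A C s ^ n)) := fun n => by
    rw [map_pow]; exact (IsLocalization.Away.algebraMap_isUnit _).pow n
  refine ⟨π', hπ', fun x => ?_, le_antisymm (fun z hz => ?_) ?_⟩
  · obtain ⟨⟨c₀, _, n, rfl⟩, hx⟩ := IsLocalization.surj (Submonoid.powers (algebraMap A C₀ s)) x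
    obtain ⟨c, rfl⟩ := hπ c₀
    refine ⟨algebraMap C (Rb C s) c * ↑(hu' n).unit⁻¹, ?_⟩
    refine (((hu' n).map π').mul_left_inj).mp ?_
    rw [← map_mul, mul_assoc, IsUnit.val_inv_mul, mul_one, hπ', hs]
    exact hx.symm
  · obtain ⟨⟨c, _, n, rfl⟩, hx⟩ := IsLocalization.surj (Submonoid.powers (algebraMap A C s)) z
    have hz0 : π' z = 0 := hz
    have h0 : algebraMap C₀ (Rb C₀ s) (π c) = 0 := by
      rw [← hπ']
      show π' (algebraMap C (Rb C s) c) = 0
      rw [← hx, map_mul, hz0, zero_mul]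
    obtain ⟨⟨_, K, rfl⟩, hK⟩ :=
      (IsLocalization.map_eq_zero_iff (Submonoid.powers (algebraMap A C₀ s)) (Rb C₀ s) _).mp h0
    have hmem : algebraMap A C s ^ K * c ∈ J.map (algebraMap A C) := by
      rw [← hker, RingHom.mem_ker]
      show π (algebraMap A C s ^ K * c) = 0
      rw [map_mul, map_pow, AlgHom.commutes]
      exact hK
    have h := Ideal.mem_map_of_mem (algebraMap C (Rb C s)) hmem
    rw [Ideal.map_map, ← IsScalarTower.algebraMap_eq, map_mul, Ideal.unit_mul_mem_iff_mem _ (hu' K), ← hx,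
      Ideal.mul_unit_mem_iff_mem _ (hu' n)] at h
    exact h
  · rw [Ideal.map_le_iff_le_comap]
    intro q hq
    rw [Ideal.mem_comap, RingHom.mem_ker, IsScalarTower.algebraMap_apply A C (Rb C s)]
    show π' _ = 0
    rw [hπ', show π (algebraMap A C q) = 0 from (hker.symm ▸ Ideal.mem_map_of_mem _ hq :
      algebraMap A C q ∈ RingHom.ker π.toRingHom), map_zero]

/-- The étale lift of a standard open. -/
theorem exists_openLift {B₀ : Type u} [CommRing B₀] [Algebra A B₀] [Algebra (A ⧸ J) B₀] [IsScalarTower A (A ⧸ J) B₀]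
    (s : A) [Algebra.Etale (A ⧸ J) (Rb B₀ s)] :
    ∃ (D : Type u) (_ : CommRing D) (_ : Algebra A D) (π : D →ₐ[A] Rb B₀ s),
      Algebra.Etale A D ∧ Function.Surjective π ∧ RingHom.ker π.toRingHom = J.map (algebraMap A D) := by
  obtain ⟨D, _, _, π, hD, hsurj, hker⟩ :=
    AlgStBasic.SmoothDescent.exists_etale_lift (P := A) (B := A ⧸ J) (C := Rb B₀ s) Ideal.Quotient.mk_surjective
  exact ⟨D, inferInstance, inferInstance, π, hD, hsurj, by rw [hker, Ideal.Quotient.algebraMap_eq, Ideal.mk_ker]⟩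

end Groth.AdicEtaleLift
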