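import Groth.Agent.AdicEtaleLift.Prelim

/-!
Lifting an algebra along a square-zero ideal with a given lift of an étale neighbourhood of `V(I)`.
-/

set_option autoImplicit false
universe u

open TensorProduct

namespace Groth.AdicEtaleLift

set_option maxHeartbeats 6400000 in
set_option synthInstance.maxHeartbeats 200000 in
theorem exists_lift_sq_zero {A : Type u} [CommRing A] (I J : Ideal A) (hI : I.FG) (hJ : J * J = ⊥)
    (C : Type u) [CommRing C] [Algebra A C] (hC : ∀ a ∈ I, Algebra.Etale A (Localization.Away (algebraMap A C a)))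
    (B₀ C₀ : Type u) [CommRing B₀] [CommRing C₀] [Algebra A B₀] [Algebra A C₀] [Algebra B₀ C₀] [IsScalarTower A B₀ C₀]
    [Algebra (A ⧸ J) B₀] [IsScalarTower A (A ⧸ J) B₀] [Algebra.FiniteType A B₀] [Algebra.Etale B₀ C₀]
    (hB₀ : ∀ a ∈ I, Algebra.Etale (A ⧸ J) (Localization.Away (algebraMap A B₀ a)))
    (πC : C →ₐ[A] C₀) (hπC : Function.Surjective πC) (hkC : RingHom.ker πC.toRingHom = J.map (algebraMap A C))
    (hmod : ModBij B₀ C₀ (I.map (algebraMap A B₀))) :
    ∃ (B : Type u) (_ : CommRing B) (_ : Algebra A B) (_ : Algebra B C) (_ : IsScalarTower A B C)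
      (πB : B →ₐ[A] B₀), Algebra.FiniteType A B ∧ Algebra.Etale B C ∧
      (∀ a ∈ I, Algebra.Etale A (Localization.Away (algebraMap A B a))) ∧ Function.Surjective πB ∧
      RingHom.ker πB.toRingHom = J.map (algebraMap A B) ∧
      ∀ b, algebraMap B₀ C₀ (πB b) = πC (algebraMap B C b) := by
  classical
  obtain ⟨r, a, ha⟩ := Submodule.fg_iff_exists_fin_generating_family.mp hI
  have haI : ∀ j, a j ∈ I := fun j => ha ▸ Submodule.subset_span ⟨j, rfl⟩
  have hIa : I.map (algebraMap A B₀) = Ideal.span (Set.range fun j => algebraMap A B₀ (a j)) := by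
    rw [← ha, Ideal.submodule_span_eq, Ideal.map_span, ← Set.range_comp]; rfl
  haveI hBs : ∀ s : I, Algebra.Etale (A ⧸ J) (Rb B₀ s.1) := fun s => hB₀ s.1 s.2
  choose D cD aD πD hDet hDsurj hDker using fun s : I => exists_openLift J (B₀ := B₀) s.1
  haveI := hDet
  haveI : ∀ s : I, Algebra.Etale A (Rb C s.1) := fun s => hC s.1 s.2
  choose πS hπS hSsurj hSker using fun s : A => exists_redHom J πC hπC hkC s
  choose mD hmD hmDinj using fun s : I => exists_kerMap J hJ (πD s) (hDsurj s) (hDker s)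
  choose mS hmS hmSinj using fun s : A => exists_kerMap J hJ (πS s) (hSsurj s) (hSker s)
  obtain ⟨mC, hmC, -⟩ := exists_kerMap J hJ πC hπC hkC
  have iD : ∀ s : I, Function.Injective (mD s) := fun s => hmDinj s inferInstance
  have iS : ∀ s : I, Function.Injective (mS s.1) := fun s => hmSinj s.1 inferInstance
  have nD : ∀ s, IsNilpotent (RingHom.ker (πD s).toRingHom) := fun s => hDker s ▸ isNilpotent_map J hJ _
  have nS : ∀ s, IsNilpotent (RingHom.ker (πS s).toRingHom) := fun s => hSker s ▸ isNilpotent_map J hJ _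
  -- lifts of restriction maps
  let φ : ∀ s : I, D s →ₐ[A] Rb C s.1 := fun s => Algebra.FormallySmooth.liftOfSurjective
    (((bc (B := B₀) C₀ s.1).restrictScalars A).comp (πD s)) (πS s.1) (hSsurj s.1) (nS s.1)
  have hφ : ∀ s x, πS s.1 (φ s x) = bc (B := B₀) C₀ s.1 (πD s x) := fun s x =>
    Algebra.FormallySmooth.liftOfSurjective_apply _ _ (hSsurj s.1) (nS s.1) x
  let ρ : ∀ s t : I, s.1 ∣ t.1 → (D s →ₐ[A] D t) := fun s t h => Algebra.FormallySmooth.liftOfSurjective
    (((res (B := B₀) h).restrictScalars A).comp (πD s)) (πD t) (hDsurj t) (nD t)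
  have hρ : ∀ (s t : I) (h : s.1 ∣ t.1) x, πD t (ρ s t h x) = res (B := B₀) h (πD s x) := fun s t h x =>
    Algebra.FormallySmooth.liftOfSurjective_apply _ _ (hDsurj t) (nD t) x
  let resC : ∀ {s t : A}, s ∣ t → (Rb C s →ₐ[A] Rb C t) := fun h => (res (B := C) h).restrictScalars A
  have hresC : ∀ {s t : A} (h : s ∣ t) (z : Rb C s), πS t (resC h z) = res (B := C₀) h (πS s z) := by
    intro s t h z
    have : (πS t).toRingHom.comp (resC h).toRingHom = (res (B := C₀) h).toRingHom.comp (πS s).toRingHom := by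
      refine IsLocalization.ringHom_ext (Submonoid.powers (algebraMap A C s)) (RingHom.ext fun c => ?_)
      show πS t (res (B := C) h (algebraMap C _ c)) = res (B := C₀) h (πS s (algebraMap C _ c))
      rw [AlgHom.commutes, hπS, hπS, AlgHom.commutes]
    exact RingHom.congr_fun this z
  have hbcres : ∀ {s t : A} (h : s ∣ t) (x : Rb B₀ s),
      bc (B := B₀) C₀ t (res (B := B₀) h x) = res (B := C₀) h (bc (B := B₀) C₀ s x) := fun h x =>
    AlgHom.congr_fun (algHom_ext ((bc C₀ _).comp (res h)) (((res (B := C₀) h).restrictScalars B₀).comp (bc C₀ _))) x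
  have hφρ : ∀ (s t : I) (h : s.1 ∣ t.1) x, φ t (ρ s t h x) = resC h (φ s x) := fun s t h x =>
    AlgHom.congr_fun (Algebra.FormallyUnramified.ext' (R := A) (πS t.1).toRingHom (nS t.1) ((φ t).comp (ρ s t h))
      ((resC h).comp (φ s)) (fun x => by
        show πS t.1 (φ t (ρ s t h x)) = πS t.1 (resC h (φ s x))
        rw [hφ, hρ, hresC, hφ, hbcres])) x
  have hρρ : ∀ (s t t' : I) (h : s.1 ∣ t.1) (h' : t.1 ∣ t'.1) x, ρ t t' h' (ρ s t h x) = ρ s t' (h.trans h') x :=
    fun s t t' h h' x => AlgHom.congr_fun (Algebra.FormallyUnramified.ext' (R := A) (πD t').toRingHom (nD t')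
      ((ρ t t' h').comp (ρ s t h)) (ρ s t' (h.trans h')) (fun x => by
        show πD t' (ρ t t' h' (ρ s t h x)) = πD t' (ρ s t' (h.trans h') x)
        rw [hρ, hρ, hρ]
        exact AlgHom.congr_fun (algHom_ext ((res h').comp (res h)) (res (B := B₀) (h.trans h'))) _)) x
  -- naturality of the kernel maps
  have nρ : ∀ (s t : I) (h : s.1 ∣ t.1) w, mD t (tm A J (res (B := B₀) h) w) = ρ s t h (mD s w) := fun s t h w =>
    (hmD s).natural (hDsurj s) (hmD t) (ρ s t h) _ (hρ s t h) _ (map_zero _) (tm_tmul J _) (map_add _) w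
  have nφ : ∀ (s : I) w, mS s.1 (tm A J (bc (B := B₀) C₀ s.1) w) = φ s (mD s w) := fun s w =>
    (hmD s).natural (hDsurj s) (hmS s.1) (φ s) _ (hφ s) _ (map_zero _) (tm_tmul J _) (map_add _) w
  have nres : ∀ {s t : A} (h : s ∣ t) w, mS t (tm A J (res (B := C₀) h) w) = resC h (mS s w) := fun {s t} h w =>
    (hmS s).natural (hSsurj s) (hmS t) (resC h) _ (hresC h) _ (map_zero _) (tm_tmul J _) (map_add _) w
  have nbase : ∀ (s : A) w, mS s (tm A J (Algebra.ofId C₀ (Rb C₀ s)) w) = algebraMap C (Rb C s) (mC w) := fun s w =>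
    hmC.natural hπC (hmS s) (IsScalarTower.toAlgHom A C (Rb C s)) _ (fun e => hπS s e) _ (map_zero _) (tm_tmul J _)
      (map_add _) w
  -- the lift
  let P : Fin r → I := fun j => ⟨a j, haI j⟩
  let Pp : Fin r × Fin r → I := fun p => ⟨a p.1 * a p.2, I.mul_mem_right _ (haI p.1)⟩
  let h1 : ∀ p : Fin r × Fin r, (P p.1).1 ∣ (Pp p).1 := fun p => dvd_mul_right _ _
  let h2 : ∀ p : Fin r × Fin r, (P p.2).1 ∣ (Pp p).1 := fun p => dvd_mul_left _ _
  let B : Subalgebra A (B₀ × C × (∀ j, D (P j))) :=
    { carrier := {x | πC x.2.1 = algebraMap B₀ C₀ x.1 ∧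
        (∀ j, πD (P j) (x.2.2 j) = algebraMap B₀ (Rb B₀ (a j)) x.1) ∧
        (∀ j, φ (P j) (x.2.2 j) = algebraMap C (Rb C (a j)) x.2.1) ∧
        ∀ p, ρ (P p.1) (Pp p) (h1 p) (x.2.2 p.1) = ρ (P p.2) (Pp p) (h2 p) (x.2.2 p.2)}
      mul_mem' := fun {x y} hx hy => ⟨by simp [hx.1, hy.1], fun j => by simp [hx.2.1 j, hy.2.1 j],
        fun j => by simp [hx.2.2.1 j, hy.2.2.1 j], fun p => by simp [hx.2.2.2 p, hy.2.2.2 p]⟩
      add_mem' := fun {x y} hx hy => ⟨by simp [hx.1, hy.1], fun j => by simp [hx.2.1 j, hy.2.1 j],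
        fun j => by simp [hx.2.2.1 j, hy.2.2.1 j], fun p => by simp [hx.2.2.2 p, hy.2.2.2 p]⟩
      algebraMap_mem' := fun c => ⟨by
          show πC (algebraMap A C c) = algebraMap B₀ C₀ (algebraMap A B₀ c)
          rw [AlgHom.commutes, ← IsScalarTower.algebraMap_apply],
        fun j => by
          show πD (P j) (algebraMap A (D (P j)) c) = algebraMap B₀ _ (algebraMap A B₀ c)
          rw [AlgHom.commutes, ← IsScalarTower.algebraMap_apply],
        fun j => by
          show φ (P j) (algebraMap A (D (P j)) c) = algebraMap C _ (algebraMap A C c)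
          rw [AlgHom.commutes, ← IsScalarTower.algebraMap_apply],
        fun p => by
          show ρ _ _ _ (algebraMap A (D (P p.1)) c) = ρ _ _ _ (algebraMap A (D (P p.2)) c)
          rw [AlgHom.commutes, AlgHom.commutes]⟩ }
  let πB : B →ₐ[A] B₀ := (AlgHom.fst A B₀ _).comp B.val
  let prC : B →ₐ[A] C := ((AlgHom.fst A C _).comp (AlgHom.snd A B₀ _)).comp B.val
  let prD : ∀ j, B →ₐ[A] D (P j) := fun j =>
    ((Pi.evalAlgHom A (fun j => D (P j)) j).comp ((AlgHom.snd A C _).comp (AlgHom.snd A B₀ _))).comp B.val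
  have hB1 : ∀ x : B, πC (prC x) = algebraMap B₀ C₀ (πB x) := fun x => x.2.1
  have hB2 : ∀ (x : B) j, πD (P j) (prD j x) = algebraMap B₀ (Rb B₀ (a j)) (πB x) := fun x j => x.2.2.1 j
  have hB3 : ∀ (x : B) j, φ (P j) (prD j x) = algebraMap C (Rb C (a j)) (prC x) := fun x j => x.2.2.2.1 j
  have hB4 : ∀ (x : B) p, ρ (P p.1) (Pp p) (h1 p) (prD p.1 x) = ρ (P p.2) (Pp p) (h2 p) (prD p.2 x) :=
    fun x p => x.2.2.2.2 p
  -- surjectivity
  have hπB : Function.Surjective πB := fun b => by
    obtain ⟨c, hc⟩ := hπC (algebraMap B₀ C₀ b)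
    choose d hd using fun j => hDsurj (P j) (algebraMap B₀ (Rb B₀ (a j)) b)
    have he : ∀ j, ∃ e, mS (a j) e = φ (P j) (d j) - algebraMap C (Rb C (a j)) c := fun j =>
      ((hmS (a j)).mem_iff _).mp (by
        rw [map_sub, show πS (a j) (φ (P j) (d j)) = _ from hφ (P j) (d j), hπS, hc, hd j, AlgHom.commutes,
          ← IsScalarTower.algebraMap_apply, sub_self])
    choose e he using he
    have hf : ∀ p, ∃ f, mD (Pp p) f = ρ (P p.1) (Pp p) (h1 p) (d p.1) - ρ (P p.2) (Pp p) (h2 p) (d p.2) := fun p =>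
      ((hmD (Pp p)).mem_iff _).mp (by rw [map_sub, hρ, hρ, hd, hd, AlgHom.commutes, AlgHom.commutes, sub_self])
    choose f hf using hf
    obtain ⟨x, y, hy, hxy⟩ := cech_solve (B := B₀) (J : Type u) a hIa C₀ hmod e f
      (fun j k l => by
        let T : I := ⟨a j * a k * a l, I.mul_mem_right _ (I.mul_mem_right _ (haI j))⟩
        refine iD T ?_
        rw [map_sub, nρ (Pp (j, k)) T, nρ (Pp (j, l)) T, nρ (Pp (k, l)) T, hf, hf, hf, map_sub, map_sub, map_sub,
          hρρ (P j) (Pp (j, k)) T (h1 (j, k)) (dvd_mul_right _ _), hρρ (P k) (Pp (j, k)) T (h2 (j, k)) (dvd_mul_right _ _),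
          hρρ (P j) (Pp (j, l)) T (h1 (j, l)), hρρ (P l) (Pp (j, l)) T (h2 (j, l)),
          hρρ (P k) (Pp (k, l)) T (h1 (k, l)), hρρ (P l) (Pp (k, l)) T (h2 (k, l))]
        exact (sub_sub_sub_cancel_right _ _ _).symm)
      (fun j k => by
        refine iS (Pp (j, k)) ?_
        rw [nφ (Pp (j, k)), hf, map_sub (φ _), hφρ (P j) (Pp (j, k)) (h1 (j, k)), hφρ (P k) (Pp (j, k)) (h2 (j, k)), map_sub]
        show mS (a j * a k) _ - mS (a j * a k) _ = _
        rw [nres, nres, he, he, map_sub, map_sub, show resC (dvd_mul_right (a j) (a k)) (algebraMap C _ c) =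
          algebraMap C _ c from AlgHom.commutes (res (B := C) _) c, show resC (dvd_mul_left (a k) (a j)) (algebraMap C _ c) =
          algebraMap C _ c from AlgHom.commutes (res (B := C) _) c, sub_sub_sub_cancel_right]
        all_goals first | exact dvd_mul_right _ _ | exact dvd_mul_left _ _)
    refine ⟨⟨(b, c + mC x, fun j => d j - mD (P j) (y j)), ⟨?_, fun j => ?_, fun j => ?_, fun p => ?_⟩⟩, rfl⟩
    · show πC (c + mC x) = _
      rw [map_add, (hmC.mem_iff _).mpr ⟨x, rfl⟩, add_zero, hc]
    · show πD (P j) (d j - mD (P j) (y j)) = _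
      rw [map_sub, ((hmD (P j)).mem_iff _).mpr ⟨y j, rfl⟩, sub_zero, hd]
    · show φ (P j) (d j - mD (P j) (y j)) = algebraMap C (Rb C (a j)) (c + mC x)
      have h' := congrArg (mS (a j)) (hxy j)
      rw [he, map_add, nbase, nφ (P j)] at h'
      rw [map_sub, map_add]
      exact sub_eq_iff_eq_add.mpr ((sub_eq_iff_eq_add.mp h').trans (by abel))
    · show ρ _ _ _ (d p.1 - mD (P p.1) (y p.1)) = ρ _ _ _ (d p.2 - mD (P p.2) (y p.2))
      have h' := congrArg (mD (Pp p)) (congrFun hy p)
      rw [show cech1 (J : Type u) a y p = tm A J (res (h1 p)) (y p.1) - tm A J (res (h2 p)) (y p.2) from rfl,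
        map_sub, nρ (P p.1) (Pp p), nρ (P p.2) (Pp p), hf] at h'
      rw [map_sub, map_sub, sub_eq_sub_iff_sub_eq_sub]
      exact h'.symm
  -- the kernel
  have hker : RingHom.ker πB.toRingHom = J.map (algebraMap A B) := by
    refine le_antisymm (fun z hz => ?_) ?_
    · have hz0 : πB z = 0 := hz
      obtain ⟨x, hx⟩ := (hmC.mem_iff (prC z)).mp (by rw [hB1, hz0, map_zero])
      have hy : ∀ j, ∃ y, mD (P j) y = prD j z := fun j =>
        ((hmD (P j)).mem_iff _).mp (by rw [hB2, hz0, map_zero])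
      choose y hy using hy
      obtain ⟨n, hn, hn'⟩ := cech_kernel (B := B₀) (J : Type u) a hIa C₀ hmod x y
        (funext fun p => by
          refine iD (Pp p) ?_
          rw [show cech1 (J : Type u) a y p = tm A J (res (h1 p)) (y p.1) - tm A J (res (h2 p)) (y p.2) from rfl,
            map_sub, nρ (P p.1) (Pp p), nρ (P p.2) (Pp p), hy, hy, hB4, sub_self]
          exact (map_zero _).symm)
        (fun j => iS (P j) (by
          show mS (a j) _ = mS (a j) _
          rw [nbase, hx, nφ (P j), hy, hB3]))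
      suffices ∀ n : B₀ ⊗[A] J, ∃ w ∈ J.map (algebraMap A B), πB w = 0 ∧
          prC w = mC (tm A J (Algebra.ofId B₀ C₀) n) ∧
          ∀ j, prD j w = mD (P j) (tm A J (Algebra.ofId B₀ (Rb B₀ (a j))) n) by
        obtain ⟨w, hw, hw0, hwC, hwD⟩ := this n
        have : z = w := Subtype.ext (Prod.ext (hz0.trans hw0.symm) (Prod.ext
          ((hx.symm.trans (by rw [hn])).trans hwC.symm) (funext fun j =>
            ((hy j).symm.trans (by rw [hn' j])).trans (hwD j).symm)))
        rwa [this]
      intro n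
      induction n with
      | zero => exact ⟨0, zero_mem _, map_zero _, by simp, fun j => by simp⟩
      | tmul b q =>
        obtain ⟨zb, rfl⟩ := hπB b
        refine ⟨algebraMap A B q * zb, Ideal.mul_mem_right _ _ (Ideal.mem_map_of_mem _ q.2), ?_, ?_, fun j => ?_⟩
        · rw [map_mul, AlgHom.commutes, IsScalarTower.algebraMap_apply A (A ⧸ J) B₀, Ideal.Quotient.algebraMap_eq,
            Ideal.Quotient.eq_zero_iff_mem.mpr q.2, map_zero, zero_mul]
        · rw [map_mul, AlgHom.commutes, tm_tmul, Algebra.ofId_apply, ← hB1, hmC.apply_tmul]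
        · rw [map_mul, AlgHom.commutes, tm_tmul, Algebra.ofId_apply, ← hB2, (hmD (P j)).apply_tmul]
      | add m n hm hn =>
        obtain ⟨w, hw, hw0, hwC, hwD⟩ := hm
        obtain ⟨v, hv, hv0, hvC, hvD⟩ := hn
        exact ⟨w + v, add_mem hw hv, by rw [map_add, hw0, hv0, add_zero],
          by simp only [map_add, hwC, hvC], fun j => by simp only [map_add, hwD j, hvD j]⟩
    · rw [Ideal.map_le_iff_le_comap]
      intro q hq
      show πB (algebraMap A B q) = 0
      rw [AlgHom.commutes, IsScalarTower.algebraMap_apply A (A ⧸ J) B₀, Ideal.Quotient.algebraMap_eq,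
        Ideal.Quotient.eq_zero_iff_mem.mpr hq, map_zero]
  obtain ⟨mB, hmB, -⟩ := exists_kerMap J hJ πB hπB hker
  have nC : ∀ n, mC (tm A J (Algebra.ofId B₀ C₀) n) = prC (mB n) := fun n =>
    hmB.natural hπB hmC prC _ (fun e => hB1 e) _ (map_zero _) (tm_tmul J _) (map_add _) n
  have nDb : ∀ j n, mD (P j) (tm A J (Algebra.ofId B₀ (Rb B₀ (a j))) n) = prD j (mB n) := fun j n =>
    hmB.natural hπB (hmD (P j)) (prD j) _ (fun e => hB2 e j) _ (map_zero _) (tm_tmul J _) (map_add _) n
  -- finite type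
  haveI : Algebra.FiniteType A B := by
    obtain ⟨G, hG⟩ := (inferInstance : Algebra.FiniteType A B₀).out
    choose g hg using hπB
    let S := Algebra.adjoin A ((G.image g : Finset B) : Set B)
    have hS : ∀ b : B₀, ∃ z ∈ S, πB z = b := fun b => by
      have : b ∈ S.map πB := by
        rw [AlgHom.map_adjoin]
        have : (⊤ : Subalgebra A B₀) ≤ Algebra.adjoin A (πB '' ((G.image g : Finset B) : Set B)) :=
          hG ▸ Algebra.adjoin_mono fun y hy => ⟨g y, Finset.mem_coe.mpr (Finset.mem_image_of_mem _ hy), hg y⟩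
        exact this trivial
      exact this
    refine ⟨⟨G.image g, eq_top_iff.mpr fun z _ => ?_⟩⟩
    have key : ∀ v ∈ J.map (algebraMap A B), ∀ t : B, v * t ∈ S := by
      intro v hv
      induction hv using Submodule.span_induction with
      | mem v hv =>
        obtain ⟨q, hq, rfl⟩ := hv
        intro t
        obtain ⟨t', ht', htt⟩ := hS (πB t)
        have hsub : t - t' ∈ J.map (algebraMap A B) := hker ▸ (show πB (t - t') = 0 by rw [map_sub, htt, sub_self])
        have h0 : ∀ u ∈ J.map (algebraMap A B), algebraMap A B q * u = 0 := fun u hu => by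
          have := Ideal.mul_mem_mul (Ideal.mem_map_of_mem (algebraMap A B) hq) hu
          rwa [← Ideal.map_mul, hJ, Ideal.map_bot] at this
        have := h0 _ hsub
        rw [mul_sub, sub_eq_zero] at this
        rw [this]
        exact S.mul_mem (S.algebraMap_mem q) ht'
      | zero => intro t; rw [zero_mul]; exact zero_mem _
      | add x y _ _ hx hy => intro t; rw [add_mul]; exact add_mem (hx t) (hy t)
      | smul c x _ hx => intro t; rw [smul_eq_mul, mul_assoc, mul_left_comm]; exact hx (c * t)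
    obtain ⟨z', hz', hzz⟩ := hS (πB z)
    have := key (z - z') (hker ▸ (show πB (z - z') = 0 by rw [map_sub, hzz, sub_self])) 1
    rw [mul_one] at this
    have h := S.add_mem this hz'
    rw [sub_add_cancel] at h
    exact h
  -- étale over the lift
  letI algBC : Algebra B C := prC.toRingHom.toAlgebra
  haveI hABC : IsScalarTower A B C := .of_algebraMap_eq fun c => (prC.commutes c).symm
  haveI : Algebra.Etale B C := by
    letI : Algebra B B₀ := πB.toRingHom.toAlgebra
    letI : Algebra B C₀ := ((algebraMap B₀ C₀).comp πB.toRingHom).toAlgebra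
    haveI : IsScalarTower B B₀ C₀ := .of_algebraMap_eq fun _ => rfl
    haveI : IsScalarTower A B C₀ := .of_algebraMap_eq fun c => by
      show _ = algebraMap B₀ C₀ (πB (algebraMap A B c))
      rw [AlgHom.commutes, ← IsScalarTower.algebraMap_apply]
    obtain ⟨Q, _, _, πQ, hQ, hQsurj, hQker⟩ :=
      AlgStBasic.SmoothDescent.exists_etale_lift (P := B) (B := B₀) (C := C₀) hπB
    letI : Algebra A Q := ((algebraMap B Q).comp (algebraMap A B)).toAlgebra
    haveI : IsScalarTower A B Q := .of_algebraMap_eq fun _ => rfl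
    have hkQ : RingHom.ker (πQ.restrictScalars A).toRingHom = J.map (algebraMap A Q) := by
      refine hQker.trans ?_
      rw [show RingHom.ker (algebraMap B B₀) = _ from hker, Ideal.map_map, ← IsScalarTower.algebraMap_eq]
    obtain ⟨mQ, hmQ, -⟩ := exists_kerMap J hJ (πQ.restrictScalars A) hQsurj hkQ
    let πC' : C →ₐ[B] C₀ := { toRingHom := πC.toRingHom, commutes' := fun z => hB1 z }
    let ξ : Q →ₐ[B] C := Algebra.FormallySmooth.liftOfSurjective πQ πC' hπC
      (show IsNilpotent (RingHom.ker πC.toRingHom) from hkC ▸ isNilpotent_map J hJ C)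
    have hξ : ∀ x, πC (ξ x) = πQ x := fun x => Algebra.FormallySmooth.liftOfSurjective_apply πQ πC' hπC _ x
    have nξ : ∀ w, mC w = ξ (mQ w) := fun w =>
      hmQ.natural hQsurj hmC (ξ.restrictScalars A) id hξ id rfl (fun _ _ => rfl) (fun _ _ => rfl) w
    let ι : B →ₐ[A] Q := IsScalarTower.toAlgHom A B Q
    have nι : ∀ n, mQ (tm A J (Algebra.ofId B₀ C₀) n) = algebraMap B Q (mB n) := fun n =>
      hmB.natural hπB hmQ ι _ (fun e => πQ.commutes e) _ (map_zero _) (tm_tmul J _) (map_add _) n
    have hbij : Function.Bijective ξ := by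
      refine ⟨(injective_iff_map_eq_zero ξ).mpr fun z hz => ?_, fun c => ?_⟩
      · obtain ⟨w, rfl⟩ := (hmQ.mem_iff z).mp (show πQ z = 0 by rw [← hξ, hz, map_zero])
        have hw0 : mC w = 0 := by rw [nξ, hz]
        obtain ⟨n, rfl, hn⟩ := exists_torsion_preimage (B := B₀) (J : Type u) a hIa C₀ hmod w fun j => iS (P j) (by
          show mS (a j) _ = mS (a j) 0
          rw [nbase, hw0, map_zero, map_zero])
        rw [nι]
        have : mB n = 0 := Subtype.ext (Prod.ext ((hmB.mem_iff _).mpr ⟨n, rfl⟩) (Prod.ext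
          ((nC n).symm.trans hw0) (funext fun j => (nDb j n).symm.trans (by rw [hn j, map_zero]; rfl))))
        rw [this, map_zero]
      · obtain ⟨q, hq⟩ := hQsurj (πC c)
        obtain ⟨w, hw⟩ := (hmC.mem_iff (c - ξ q)).mp (by rw [map_sub, hξ, hq, sub_self])
        exact ⟨q + mQ w, by rw [map_add, ← nξ, hw]; abel⟩
    exact Algebra.Etale.of_equiv (AlgEquiv.ofBijective ξ hbij)
  -- étale outside the ideal
  have hBj : ∀ j, ∃ alg : Algebra B (D (P j)),
      @IsScalarTower A B (D (P j)) _ alg.toSMul _ ∧ @IsLocalization.Away B _ (algebraMap A B (a j)) (D (P j)) _ alg := by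
    intro j
    letI alg : Algebra B (D (P j)) := (prD j).toRingHom.toAlgebra
    refine ⟨alg, .of_algebraMap_eq fun c => ((prD j).commutes c).symm, ?_⟩
    have hunit : IsUnit (algebraMap A (D (P j)) (a j)) :=
      isUnit_of_map (πD (P j)).toRingHom (hDsurj _) (nD _) (by
        show IsUnit (πD (P j) (algebraMap A (D (P j)) (a j)))
        rw [AlgHom.commutes]
        exact (congrArg IsUnit (IsScalarTower.algebraMap_apply A B₀ (Rb B₀ (a j)) (a j))).mpr
          (IsLocalization.Away.algebraMap_isUnit _))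
    refine IsLocalization.Away.mk (algebraMap A B (a j)) ?_ (fun d => ?_) fun x y hxy => ?_
    · show IsUnit (prD j (algebraMap A B (a j)))
      rwa [AlgHom.commutes]
    · obtain ⟨⟨b, _, n, rfl⟩, hb⟩ := IsLocalization.surj (Submonoid.powers (algebraMap A B₀ (a j))) (πD (P j) d)
      obtain ⟨z, rfl⟩ := hπB b
      obtain ⟨w, hw⟩ := ((hmD (P j)).mem_iff (algebraMap A (D (P j)) (a j) ^ n * d - prD j z)).mp (by
        rw [map_sub, map_mul, map_pow (πD (P j)), AlgHom.commutes, hB2, ← hb, mul_comm (πD (P j) d), map_pow,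
          ← IsScalarTower.algebraMap_apply, sub_self])
      obtain ⟨K, n', hK⟩ := base_surj (B := B₀) (J : Type u) w
      refine ⟨n + K, algebraMap A B (a j) ^ K * z + mB n', ?_⟩
      show d * prD j (algebraMap A B (a j)) ^ (n + K) = prD j _
      have hK' := congrArg (mD (P j)) hK
      rw [nDb, ← map_pow, algebraMap_smul, map_smul, hw, Algebra.smul_def, map_pow] at hK'
      rw [map_add, map_mul, map_pow, AlgHom.commutes, ← hK']
      ring
    · have hd : prD j (x - y) = 0 := by rw [map_sub]; exact sub_eq_zero.mpr hxy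
      have h0 : algebraMap B₀ (Rb B₀ (a j)) (πB (x - y)) = 0 := by rw [← hB2, hd, map_zero]
      obtain ⟨⟨_, K, rfl⟩, hK⟩ :=
        (IsLocalization.map_eq_zero_iff (Submonoid.powers (algebraMap A B₀ (a j))) (Rb B₀ (a j)) _).mp h0
      obtain ⟨n, hn⟩ := (hmB.mem_iff (algebraMap A B (a j) ^ K * (x - y))).mp (by
        rw [map_mul, map_pow, AlgHom.commutes]; exact hK)
      have h1' : tm A J (Algebra.ofId B₀ (Rb B₀ (a j))) n = 0 := iD (P j) (by
        rw [nDb, hn, map_mul, hd, mul_zero]; exact (map_zero _).symm)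
      obtain ⟨L, hL⟩ := base_eq_zero (J : Type u) h1'
      refine ⟨L + K, sub_eq_zero.mp ?_⟩
      rw [← map_pow, algebraMap_smul] at hL
      have := congrArg mB hL
      rw [map_smul, hn, map_zero, Algebra.smul_def, map_pow] at this
      rw [← mul_sub, pow_add, mul_assoc]
      exact this
  refine ⟨B, inferInstance, inferInstance, algBC, hABC, πB, inferInstance, inferInstance, fun s hs => ?_, hπB, hker,
    fun b => (hB1 b).symm⟩
  -- local on the standard opens
  let Bs := Localization.Away (algebraMap A B s)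
  refine RingHom.etale_algebraMap.mp ?_
  refine RingHom.Etale.ofLocalizationSpanTarget (algebraMap A Bs) (Set.range fun j => algebraMap A Bs (a j)) ?_ ?_
  · have hu : IsUnit (algebraMap A Bs s) :=
      (congrArg IsUnit (IsScalarTower.algebraMap_apply A B Bs s)).mpr (IsLocalization.Away.algebraMap_isUnit _)
    refine Ideal.eq_top_of_isUnit_mem _ ?_ hu
    have := Ideal.mem_map_of_mem (algebraMap A Bs) hs
    rw [← ha, Ideal.submodule_span_eq, Ideal.map_span, ← Set.range_comp] at this
    exact this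
  · rintro ⟨_, j, rfl⟩
    obtain ⟨alg, htow, hloc⟩ := hBj j
    let T := Localization.Away (algebraMap A Bs (a j))
    let T' := Localization.Away (algebraMap A (D (P j)) s)
    letI := alg
    haveI := htow
    haveI := hloc
    haveI : IsLocalization.Away (algebraMap B Bs (algebraMap A B (a j))) T := by
      rw [← IsScalarTower.algebraMap_apply]; infer_instance
    haveI : IsLocalization.Away (algebraMap A B (a j) * algebraMap A B s) T :=
      IsLocalization.Away.mul Bs T (algebraMap A B s) (algebraMap A B (a j))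
    haveI : IsLocalization.Away (algebraMap B (D (P j)) (algebraMap A B s)) T' := by
      rw [← IsScalarTower.algebraMap_apply]; infer_instance
    haveI : IsLocalization.Away (algebraMap A B (a j) * algebraMap A B s) T' :=
      IsLocalization.Away.mul' (D (P j)) T' (algebraMap A B (a j)) (algebraMap A B s)
    haveI : Algebra.Etale A T' := inferInstance
    let eq := (IsLocalization.algEquiv (Submonoid.powers (algebraMap A B (a j) * algebraMap A B s)) T' T).restrictScalars A
    have hT : Algebra.Etale A T := Algebra.Etale.of_equiv eq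
    rw [← IsScalarTower.algebraMap_eq]
    exact RingHom.etale_algebraMap.mpr hT

end Groth.AdicEtaleLift
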