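import Mathlib

/-!
Torsion classes along a flat map which is bijective modulo an ideal.
-/

set_option autoImplicit false
universe u

open TensorProduct

namespace Groth.AdicEtaleLift

variable {B C : Type u} [CommRing B] [CommRing C] [Algebra B C]

/-- `B → C` is bijective modulo `I`. -/
structure ModBij (B C : Type u) [CommRing B] [CommRing C] [Algebra B C] (I : Ideal B) : Prop where
  surj : ∀ c : C, ∃ b : B, algebraMap B C b - c ∈ I.map (algebraMap B C)
  inj : ∀ b : B, algebraMap B C b ∈ I.map (algebraMap B C) → b ∈ I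

variable {I : Ideal B} (hI : ModBij B C I)

include hI in
theorem ModBij.surj_pow (m : ℕ) (c : C) : ∃ b : B, algebraMap B C b - c ∈ (I ^ m).map (algebraMap B C) := by
  induction m generalizing c with
  | zero => exact ⟨0, by rw [pow_zero, Ideal.one_eq_top, Ideal.map_top]; exact trivial⟩
  | succ m ih =>
    have key : ∀ x ∈ (I ^ m).map (algebraMap B C), ∃ b : B, algebraMap B C b - x ∈ (I ^ (m + 1)).map (algebraMap B C) := by
      intro x hx
      induction hx using Submodule.span_induction with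
      | mem x hx => obtain ⟨b, -, rfl⟩ := hx; exact ⟨b, by simp⟩
      | zero => exact ⟨0, by simp⟩
      | add x y _ _ hx hy =>
        obtain ⟨b, hb⟩ := hx
        obtain ⟨b', hb'⟩ := hy
        exact ⟨b + b', by convert add_mem hb hb' using 1; rw [map_add]; ring⟩
      | smul t x hxI hx =>
        obtain ⟨b, hb⟩ := hx
        obtain ⟨b', hb'⟩ := hI.surj t
        refine ⟨b' * b, ?_⟩
        have h : algebraMap B C (b' * b) - t • x =
            (algebraMap B C b' - t) * x + algebraMap B C b' * (algebraMap B C b - x) := by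
          rw [map_mul, smul_eq_mul]; ring
        rw [h]
        refine add_mem ?_ (Ideal.mul_mem_left _ _ hb)
        rw [pow_succ', Ideal.map_mul]
        exact Ideal.mul_mem_mul hb' hxI
    obtain ⟨b, hb⟩ := ih c
    obtain ⟨b', hb'⟩ := key _ hb
    exact ⟨b - b', by convert neg_mem hb' using 1; rw [map_sub]; ring⟩

include hI in
theorem ModBij.eq_top_of_one_mem {J : Ideal B} {m : ℕ} (hJ : I ^ m ≤ J) (h : (1 : C) ∈ J.map (algebraMap B C)) :
    J = ⊤ := by
  by_contra hne
  obtain ⟨P, hP, hJP⟩ := Ideal.exists_le_maximal J hne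
  have hIP : I ≤ P := hP.isPrime.le_of_pow_le (hJ.trans hJP)
  have key : ∀ x ∈ J.map (algebraMap B C), ∃ b ∈ P, algebraMap B C b - x ∈ I.map (algebraMap B C) := by
    intro x hx
    induction hx using Submodule.span_induction with
    | mem x hx => obtain ⟨b, hb, rfl⟩ := hx; exact ⟨b, hJP hb, by simp⟩
    | zero => exact ⟨0, P.zero_mem, by simp⟩
    | add x y _ _ hx hy =>
      obtain ⟨b, hbP, hb⟩ := hx
      obtain ⟨b', hbP', hb'⟩ := hy
      exact ⟨b + b', add_mem hbP hbP', by convert add_mem hb hb' using 1; rw [map_add]; ring⟩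
    | smul t x _ hx =>
      obtain ⟨b, hbP, hb⟩ := hx
      obtain ⟨b', hb'⟩ := hI.surj t
      refine ⟨b' * b, P.mul_mem_left _ hbP, ?_⟩
      have h : algebraMap B C (b' * b) - t • x =
          (algebraMap B C b' - t) * x + algebraMap B C b' * (algebraMap B C b - x) := by
        rw [map_mul, smul_eq_mul]; ring
      rw [h]
      exact add_mem (Ideal.mul_mem_right _ _ hb') (Ideal.mul_mem_left _ _ hb)
  obtain ⟨b, hbP, hb⟩ := key 1 h
  rw [← map_one (algebraMap B C), ← map_sub] at hb
  refine hP.ne_top ((Ideal.eq_top_iff_one P).mpr ?_)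
  have := sub_mem hbP (hIP (hI.inj _ hb))
  rwa [sub_sub_cancel] at this

/-- An element killed by a power of `I`. -/
def IsITors (I : Ideal B) {M : Type u} [AddCommGroup M] [Module B M] (x : M) : Prop :=
  ∃ m : ℕ, ∀ b ∈ I ^ m, b • x = 0

theorem isITors_of_gens {ι : Type*} [Finite ι] (a : ι → B) (hIa : I = Ideal.span (Set.range a)) {M : Type u}
    [AddCommGroup M] [Module B M] (x : M) (h : ∀ i, ∃ m : ℕ, a i ^ m • x = 0) : IsITors I x := by
  let J : Ideal B := Ideal.torsionOf B M x
  have hle : I ≤ J.radical := by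
    rw [hIa, Ideal.span_le]
    rintro _ ⟨i, rfl⟩
    obtain ⟨m, hm⟩ := h i
    exact ⟨m, (Ideal.mem_torsionOf_iff x _).mpr hm⟩
  obtain ⟨m, hm⟩ := Ideal.exists_pow_le_of_le_radical_of_fg hle (hIa ▸ Submodule.fg_span (Set.finite_range a))
  exact ⟨m, fun b hb => (Ideal.mem_torsionOf_iff x b).mp (hm hb)⟩

variable [Module.Flat B C]

include hI in
theorem eq_zero_of_tmul_eq_zero {M : Type u} [AddCommGroup M] [Module B M] (x : M) (hx : IsITors I x)
    (h : (1 : C) ⊗ₜ[B] x = 0) : x = 0 := by
  obtain ⟨m, hm⟩ := hx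
  let J : Ideal B := Ideal.torsionOf B M x
  let q : B ⧸ J →ₗ[B] M := Submodule.liftQ J (LinearMap.toSpanSingleton B M x) le_rfl
  have hq : Function.Injective q := by
    rw [← LinearMap.ker_eq_bot]
    exact Submodule.ker_liftQ_eq_bot _ _ _ le_rfl
  have h1 : (1 : C) ⊗ₜ[B] (Submodule.Quotient.mk (1 : B) : B ⧸ J) = 0 :=
    Module.Flat.lTensor_preserves_injective_linearMap q hq (by
      rw [LinearMap.lTensor_tmul, map_zero]
      refine (congrArg (fun y => (1 : C) ⊗ₜ[B] y) ?_).trans h
      show (1 : B) • x = x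
      rw [one_smul])
  have h2 := congrArg (TensorProduct.tensorQuotEquivQuotSMul C J) h1
  rw [show (Submodule.Quotient.mk (1 : B) : B ⧸ J) = Ideal.Quotient.mk J 1 from rfl,
    TensorProduct.tensorQuotEquivQuotSMul_tmul_mk, map_zero, one_smul, Submodule.Quotient.mk_eq_zero,
    Ideal.smul_top_eq_map] at h2
  have hJ := hI.eq_top_of_one_mem (J := J) (m := m) (fun b hb => (Ideal.mem_torsionOf_iff x b).mpr (hm b hb)) h2
  have := (Ideal.mem_torsionOf_iff x (1 : B)).mp (show (1 : B) ∈ J from hJ ▸ trivial)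
  rwa [one_smul] at this

omit [Module.Flat B C] in
include hI in
theorem exists_eq_tmul {G : Type u} [AddCommGroup G] [Module B G] (hG : ∀ g : G, IsITors I g) (z : C ⊗[B] G) :
    ∃ g, z = 1 ⊗ₜ g := by
  induction z with
  | zero => exact ⟨0, (tmul_zero _ _).symm⟩
  | tmul c g =>
    obtain ⟨m, hm⟩ := hG g
    obtain ⟨b, hb⟩ := hI.surj_pow m c
    have key : ∀ x ∈ (I ^ m).map (algebraMap B C), ∀ t : C, (t * x) ⊗ₜ[B] g = 0 := by
      intro x hx
      induction hx using Submodule.span_induction with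
      | mem x hx =>
        obtain ⟨s, hs, rfl⟩ := hx
        intro t
        rw [mul_comm, ← Algebra.smul_def, smul_tmul, hm s hs, tmul_zero]
      | zero => intro t; rw [mul_zero, zero_tmul]
      | add x y _ _ hx hy => intro t; rw [mul_add, add_tmul, hx, hy, add_zero]
      | smul r x _ hx => intro t; rw [smul_eq_mul, ← mul_assoc]; exact hx (t * r)
    refine ⟨b • g, ?_⟩
    have h0 := key _ hb 1
    rw [one_mul, sub_tmul, sub_eq_zero] at h0
    rw [← h0, Algebra.algebraMap_eq_smul_one, smul_tmul]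
  | add x y hx hy =>
    obtain ⟨g, rfl⟩ := hx
    obtain ⟨g', rfl⟩ := hy
    exact ⟨g + g', (tmul_add _ _ _).symm⟩

include hI in
theorem mem_range_of_tors {X Y Y' X' : Type u} [AddCommGroup X] [Module B X] [AddCommGroup Y] [Module B Y]
    [AddCommGroup X'] [Module B X'] [Module C X'] [IsScalarTower B C X']
    [AddCommGroup Y'] [Module B Y'] [Module C Y'] [IsScalarTower B C Y']
    (δ : X →ₗ[B] Y) (δ' : X' →ₗ[C] Y') (βX : X →ₗ[B] X') (βY : Y →ₗ[B] Y')
    (hX : IsBaseChange C βX) (hY : IsBaseChange C βY) (hc : ∀ x, δ' (βX x) = βY (δ x))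
    (f : Y) (hf : IsITors I ((LinearMap.range δ).mkQ f)) (e : X') (he : δ' e = βY f) :
    ∃ x, δ x = f := by
  obtain ⟨z, rfl⟩ := hX.equiv.surjective e
  have hnat : ∀ z, δ' (hX.equiv z) = hY.equiv (δ.baseChange C z) := by
    intro z
    induction z with
    | zero => simp
    | tmul c x => rw [LinearMap.baseChange_tmul, IsBaseChange.equiv_tmul, IsBaseChange.equiv_tmul, map_smul, hc]
    | add x y hx hy => rw [map_add, map_add, map_add, map_add, hx, hy]
  rw [hnat, show βY f = hY.equiv (1 ⊗ₜ f) from by rw [IsBaseChange.equiv_tmul, one_smul]] at he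
  have he' := congrArg ((LinearMap.range δ).mkQ.baseChange C) (hY.equiv.injective he)
  rw [← LinearMap.comp_apply, ← LinearMap.baseChange_comp, LinearMap.range_mkQ_comp, LinearMap.baseChange_zero,
    LinearMap.zero_apply, LinearMap.baseChange_tmul] at he'
  exact (Submodule.Quotient.mk_eq_zero _).mp (eq_zero_of_tmul_eq_zero hI _ hf he'.symm)

include hI in
theorem exists_sub_mem_range {N X Y N' X' Y' : Type u} [AddCommGroup N] [Module B N] [AddCommGroup X] [Module B X]
    [AddCommGroup Y] [Module B Y] [AddCommGroup N'] [Module B N'] [Module C N'] [IsScalarTower B C N']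
    [AddCommGroup X'] [Module B X'] [Module C X'] [IsScalarTower B C X']
    [AddCommGroup Y'] [Module B Y'] [Module C Y'] [IsScalarTower B C Y']
    (ι : N →ₗ[B] X) (δ : X →ₗ[B] Y) (ι' : N' →ₗ[C] X') (δ' : X' →ₗ[C] Y')
    (βN : N →ₗ[B] N') (βX : X →ₗ[B] X') (βY : Y →ₗ[B] Y')
    (hN : IsBaseChange C βN) (hX : IsBaseChange C βX) (hY : IsBaseChange C βY)
    (hc₁ : ∀ n, ι' (βN n) = βX (ι n)) (hc₂ : ∀ x, δ' (βX x) = βY (δ x))
    (htors : ∀ g, δ g = 0 → IsITors I ((LinearMap.range ι).mkQ g)) (e : X') (he : δ' e = 0) :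
    ∃ g x, δ g = 0 ∧ e = βX g + ι' x := by
  obtain ⟨z, rfl⟩ := hX.equiv.surjective e
  have hnat₁ : ∀ z, ι' (hN.equiv z) = hX.equiv (ι.baseChange C z) := by
    intro z
    induction z with
    | zero => simp
    | tmul c x => rw [LinearMap.baseChange_tmul, IsBaseChange.equiv_tmul, IsBaseChange.equiv_tmul, map_smul, hc₁]
    | add x y hx hy => rw [map_add, map_add, map_add, map_add, hx, hy]
  have hnat₂ : ∀ z, δ' (hX.equiv z) = hY.equiv (δ.baseChange C z) := by
    intro z
    induction z with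
    | zero => simp
    | tmul c x => rw [LinearMap.baseChange_tmul, IsBaseChange.equiv_tmul, IsBaseChange.equiv_tmul, map_smul, hc₂]
    | add x y hx hy => rw [map_add, map_add, map_add, map_add, hx, hy]
  rw [hnat₂] at he
  have hz : δ.lTensor C z = 0 := hY.equiv.injective (he.trans (map_zero _).symm)
  obtain ⟨w, rfl⟩ := ((Module.Flat.lTensor_exact C (LinearMap.exact_subtype_ker_map δ)) z).mp hz
  let π : LinearMap.ker δ →ₗ[B] X ⧸ LinearMap.range ι := (LinearMap.range ι).mkQ.comp (LinearMap.ker δ).subtype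
  have hG : ∀ g : LinearMap.range π, IsITors I g := by
    rintro ⟨_, g, rfl⟩
    obtain ⟨m, hm⟩ := htors g.1 g.2
    exact ⟨m, fun b hb => Subtype.ext (hm b hb)⟩
  obtain ⟨⟨_, g, rfl⟩, hg⟩ := exists_eq_tmul hI hG (π.rangeRestrict.lTensor C w)
  let v : C ⊗[B] X := (LinearMap.ker δ).subtype.lTensor C w - 1 ⊗ₜ g.1
  have hv : (LinearMap.range ι).mkQ.lTensor C v = 0 := by
    have h := congrArg ((LinearMap.range π).subtype.lTensor C) hg
    rw [← LinearMap.lTensor_comp_apply, show (LinearMap.range π).subtype ∘ₗ π.rangeRestrict = π from rfl, LinearMap.lTensor_tmul] at h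
    rw [map_sub, LinearMap.lTensor_tmul, ← LinearMap.lTensor_comp_apply, sub_eq_zero]
    exact h
  obtain ⟨n, hn⟩ := ((lTensor_exact C (LinearMap.exact_map_mkQ_range ι) (Submodule.mkQ_surjective _)) v).mp hv
  refine ⟨g.1, hN.equiv n, g.2, ?_⟩
  rw [hnat₁, show ι.baseChange C n = v from hn, map_sub, IsBaseChange.equiv_tmul, one_smul]
  abel

end Groth.AdicEtaleLift
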